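import Mathlib
import Cfsg.Prelude.Def_FusionSystem
import Cfsg.Prelude.Def_FusionComponents
import Cfsg.Agent.Lib.PIX.PIXDefs
import Cfsg.Agent.Lib.PIX.PIXFam
import Cfsg.Agent.Lib.OPE.OPEDefs
import Cfsg.Agent.Lib.Helper25.FusionInvariant

/-!
# S5243 (design helper22, SPECIFIC HALF, `Lib/PIY`): the data `T`, `E`, `χ`

Setting: `F` saturated over `S`, `E` normal in `F` over `T ≤ S`, `χ : Aut_F(T) →* Δ`, `Δ` a `p'`-group,
`Aut_E(T) ≤ ker χ`.  (All bundled in `Setup`.)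

* `TCentric F T Q`: `Q ≤ T` and every `F`-conjugate `Q'` of `Q` has `C_T(Q') ≤ Q'` (equivalent to `E`-centric,
  file `PIYTCen`).
* `famH F T`: the `F`-centric `P ≤ S` with `P ⊓ T` `TCentric`.  This is the family `HH` of the generic half
  (`Lib/PIX`, helper3).
* SHARED with helper3 (`Lib/PIX/PIXFam.lean`, `Lib/PIX/PIXChi.lean`, namespace `Cfsg.Agent.Helper3.PIX`, visible here
  through the namespace directive below): `famHH F E = {P | F.IsCentric P ∧ E.IsCentric (P ⊓ T)}` (the family `HH`;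
  equal to `famH F T`, file `PIYFamHyp`), `Good F E χ P φ := ∃ a : ↥(F.autGroup T), χ a = 1 ∧ ∃ φ₀, ∃ h : φ₀ ∈ E.Hom (P ⊓ T),
  ∀ x, φ ⟨x, x.2.1⟩ = a ⟨φ₀ x, _⟩`, `ExtChi`, `Hchi F hTS χ` (`mem_hchi : Iff.rfl`).
  `Dchi` (file `PIYDchi`) is the system of the `Good` maps of `F`.
* DELIVERABLES of this half for `Helper3.PIX.s5243_of_hyps`: `famHyp` (file `PIYFamHyp`), `Dchi`, `admH_Dchi`
  (file `PIYAdm`), `autGroup_Dchi_top` (file `PIYAutD`).

KEY FACT replacing the (false) "EXTUP" step: `chi_ext` (file `PIYChiExt`, = helper3's `extChi_of_normal`): `b ∈ Aut_F(T)`, `Q` `E`-centric,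
`b|Q ∈ E` ⟹ `χ b = 1` (NOT `b ∈ Aut_E(T)`: false for `S = Q16`, `T = Q8`, `E = F_T(T)`).
-/

set_option autoImplicit false

namespace Cfsg.Agent.Helper22.PIY

open Cfsg Cfsg.FusionSystem Cfsg.Agent.Helper25 Cfsg.Agent.Helper26 Cfsg.Agent.Helper3.PIX
  Cfsg.Agent.Helper25.OPE

variable {Ω : Type*} [Group Ω] {S : Subgroup Ω}

/-- `Q ≤ T` and every `F`-conjugate of `Q` contains its centralizer in `T`. -/
def TCentric (F : FusionSystem S) (T Q : Subgroup Ω) : Prop :=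
  Q ≤ T ∧ ∀ Q' : Subgroup Ω, F.IsConj Q Q' → centralizerIn T Q' ≤ Q'

/-- The family `HH`: `F`-centric subgroups `P` with `P ⊓ T` `TCentric`. -/
def famH (F : FusionSystem S) (T : Subgroup Ω) : Set (Subgroup Ω) :=
  {P | F.IsCentric P ∧ TCentric F T (P ⊓ T)}

theorem mem_famH {F : FusionSystem S} {T P : Subgroup Ω} :
    P ∈ famH F T ↔ F.IsCentric P ∧ TCentric F T (P ⊓ T) := Iff.rfl

/-- The hypotheses of S5243 (without surjectivity of `χ` and nontriviality of `Δ`, which are only used for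
properness). -/
structure Setup (p : ℕ) (F : FusionSystem S) {T : Subgroup Ω} (E : FusionSystem T)
    {Δ : Type*} [Group Δ] (χ : ↥(F.autGroup T) →* Δ) : Prop where
  hS : IsPGroup p S
  hF : F.IsSaturated p
  hTS : T ≤ S
  hE : E.IsNormalIn F p
  hΔ : (Nat.card Δ).Coprime p
  hker : (E.autGroup T).subgroupOf (F.autGroup T) ≤ χ.ker

namespace Setup

variable {p : ℕ} {F : FusionSystem S} {T : Subgroup Ω} {E : FusionSystem T}
  {Δ : Type*} [Group Δ] {χ : ↥(F.autGroup T) →* Δ}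

theorem hEsat (h : Setup p F E χ) : E.IsSaturated p := h.hE.1.1
theorem hinv (h : Setup p F E χ) : E.IsInvariantIn F := h.hE.1.2.2
theorem hEF (h : Setup p F E χ) : E.IsSubsystemOf F := h.hE.1.2.2.1
theorem hT (h : Setup p F E χ) : F.StronglyClosed T := h.hE.1.2.2.2.1
theorem hSI (h : Setup p F E χ) : StrongInv F E := strongInv_of_isInvariantIn h.hinv
theorem hAI (h : Setup p F E χ) : AutInv F E := h.hSI.autInv h.hTS
theorem hTp (h : Setup p F E χ) : IsPGroup p T := h.hS.to_le h.hTS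

/-- Elements of `Aut_E(T)` are killed by `χ`. -/
theorem chi_of_mem (h : Setup p F E χ) {a : MulAut T} (ha : a ∈ F.autGroup T)
    (haE : a ∈ E.autGroup T) : χ ⟨a, ha⟩ = 1 :=
  h.hker (Subgroup.mem_subgroupOf.mpr haE)

end Setup

end Cfsg.Agent.Helper22.PIY
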