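import Mathlib
import Cfsg.Agent.Lib.PIY.PIYDefs

/-!
# PIY-GCONJ (S5243, specific half): `χ` kills `p`-elements; conjugations by elements of `S` are `Good`.
RECIPE.
* `chi_eq_one_of_pow`: `(χ ⟨a, ha⟩) ^ p ^ k = χ (⟨a, ha⟩ ^ p ^ k) = 1` (`map_pow`, `Subtype.ext`), so
  `orderOf (χ _) ∣ p ^ k`; also `orderOf _ ∣ Nat.card Δ` (`orderOf_dvd_natCard`); coprime (`hΔ.pow_right k`,
  `Nat.Coprime.eq_one_of_dvd`/`Nat.eq_one_of_dvd_coprimes`) gives `orderOf = 1`.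
* `good_conj`: copy `Helper25.frattiniPr_conj` (`Lib/Helper25/FusionInvariant.lean` l.76): same `α`
  (`Subgroup.normalizerMonoidHom T ⟨g, _⟩`) and `φ₀`; in addition `χ ⟨α, _⟩ = 1` by `chi_eq_one_of_pow`:
  `g ^ p ^ k = 1` (`h.hS ⟨g, hg⟩`), and `α ^ p ^ k = 1` by `map_pow` (as in `Helper21.conj_pow_eq_one`,
  `Lib/Helper21/MetaFusionOdd.lean` l.197).
`Good` is helper3's (`Lib/PIX/PIXFam.lean`): `∃ a : ↥(F.autGroup T), χ a = 1 ∧ ∃ φ₀, ∃ h : φ₀ ∈ E.Hom (P ⊓ T), ∀ x, φ ⟨x, x.2.1⟩ =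
(a : MulAut T) ⟨φ₀ x, _⟩` - i.e. `Helper25.FrattiniPr` with the pair `(α, hα)` bundled as `a = ⟨α, hα⟩` plus `χ a = 1`.
Aux names: prefix `piygconj_`.  Keep statements, names, namespace exactly; you may add imports.
-/

set_option autoImplicit false

namespace Cfsg.Agent.Helper22.PIY

open Cfsg Cfsg.FusionSystem Cfsg.Agent.Helper25 Cfsg.Agent.Helper26 Cfsg.Agent.Helper3.PIX
  Cfsg.Agent.Helper25.OPE

variable {Ω : Type*} [Group Ω] {S : Subgroup Ω} {p : ℕ} {F : FusionSystem S} {T : Subgroup Ω}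
  {E : FusionSystem T} {Δ : Type*} [Group Δ] {χ : ↥(F.autGroup T) →* Δ}

theorem chi_eq_one_of_pow [Finite Δ] (hΔ : (Nat.card Δ).Coprime p) (χ : ↥(F.autGroup T) →* Δ)
    {a : MulAut ↥T} (ha : a ∈ F.autGroup T) {k : ℕ} (hk : a ^ p ^ k = 1) : χ ⟨a, ha⟩ = 1 := by
  have h1 : (χ ⟨a, ha⟩) ^ p ^ k = 1 := by
    rw [← map_pow]
    have : (⟨a, ha⟩ : ↥(F.autGroup T)) ^ p ^ k = 1 := by
      apply Subtype.ext
      simpa using hk
    rw [this, map_one]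
  have h2 : orderOf (χ ⟨a, ha⟩) ∣ p ^ k := orderOf_dvd_of_pow_eq_one h1
  have h3 : orderOf (χ ⟨a, ha⟩) ∣ Nat.card Δ := orderOf_dvd_natCard _
  have h4 : orderOf (χ ⟨a, ha⟩) = 1 := Nat.eq_one_of_dvd_coprimes (hΔ.pow_right k) h3 h2
  exact orderOf_eq_one_iff.1 h4

theorem good_conj [Finite Δ] (h : Setup p F E χ) {P : Subgroup Ω} {g : Ω} (hP : P ≤ S)
    (hg : g ∈ S) : Good F E χ P (conjHom P g) := by
  have hT := h.hT
  have hgN := mem_normalizer_of_stronglyClosed hT hg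
  have hα : Subgroup.normalizerMonoidHom T ⟨g, hgN⟩ ∈ F.autGroup T := by
    apply autInducedBy_le_autGroup F hT.1
    exact (mem_autInducedBy_iff _).mpr ⟨g, hg, fun x => normalizerMonoidHom_apply_coe T ⟨g, hgN⟩ x⟩
  obtain ⟨k, hk⟩ := h.hS ⟨g, hg⟩
  have hpow : (Subgroup.normalizerMonoidHom T ⟨g, hgN⟩) ^ p ^ k = 1 := by
    rw [← map_pow]
    have : (⟨g, hgN⟩ : Subgroup.normalizer (T : Set Ω)) ^ p ^ k = 1 := by
      apply Subtype.ext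
      simpa using congrArg Subtype.val hk
    rw [this, map_one]
  refine ⟨⟨_, hα⟩, chi_eq_one_of_pow h.hΔ χ hα hpow, (P ⊓ T).subtype,
    subtype_mem E inf_le_right, fun x => ?_⟩
  show _ = (((Subgroup.normalizerMonoidHom T ⟨g, hgN⟩) ⟨_, _⟩ : T) : Ω)
  rw [normalizerMonoidHom_apply_coe]
  rfl

end Cfsg.Agent.Helper22.PIY
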