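import Mathlib
import Cfsg.Agent.Lib.PIY.PIYGConj
import Cfsg.Agent.Lib.PIX.PIXExtChi

/-!
# S5243, specific half: `chi_ext`, the form of helper3's `extChi_of_normal` (`Lib/PIX/PIXExtChi.lean`, piece PIX-XCHI)
used in `Lib/PIY`:  `b ∈ Aut_F(T)`, `Q` `E`-centric, `b|Q ∈ E` ⟹ `χ b = 1`.
(`b ∈ Aut_E(T)` is FALSE in general; only the `p'`-part of `b` lies in `Aut_E(T)`.)
-/

set_option autoImplicit false

namespace Cfsg.Agent.Helper22.PIY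

open Cfsg Cfsg.FusionSystem Cfsg.Agent.Helper25 Cfsg.Agent.Helper26 Cfsg.Agent.Helper3.PIX
  Cfsg.Agent.Helper25.OPE

variable {Ω : Type*} [Group Ω] {S : Subgroup Ω} {p : ℕ} {F : FusionSystem S} {T : Subgroup Ω}
  {E : FusionSystem T} {Δ : Type*} [Group Δ] {χ : ↥(F.autGroup T) →* Δ}

theorem chi_ext [Finite S] [Fact p.Prime] [Finite Δ] (h : Setup p F E χ) {b : MulAut ↥T}
    (hb : b ∈ F.autGroup T) {Q : Subgroup Ω} (hQ : E.IsCentric Q)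
    (hres : resAut b Q hQ.1 ∈ E.Hom Q) : χ ⟨b, hb⟩ = 1 :=
  extChi_of_normal p h.hS F h.hTS E h.hE h.hΔ χ h.hker ⟨b, hb⟩ Q hQ hres

end Cfsg.Agent.Helper22.PIY
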