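import Mathlib
import Cfsg.Agent.Lib.PIY.PIYDefs

/-!
# PIY-GCOMP (S5243, specific half): `Good` is stable under composition.
RECIPE.  COPY of the proof of `Helper25.frattiniPr_comp` (`Lib/Helper25/FusionInvariant.lean` l.87-133) with
`hAI := h.hAI`, `hT := h.hT`: it produces the witness `α₂ * α₁`; in addition
`χ ⟨α₂ * α₁, _⟩ = χ (⟨α₂, _⟩ * ⟨α₁, _⟩) = 1 * 1` (`map_mul`; the two subtypes agree by `Subtype.ext rfl`/`rfl`).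
`Good` is helper3's (`Lib/PIX/PIXFam.lean`): `∃ a : ↥(F.autGroup T), χ a = 1 ∧ ∃ φ₀, ∃ h : φ₀ ∈ E.Hom (P ⊓ T), ∀ x, φ ⟨x, x.2.1⟩ =
(a : MulAut T) ⟨φ₀ x, _⟩` - i.e. `Helper25.FrattiniPr` with the pair `(α, hα)` bundled as `a = ⟨α, hα⟩` plus `χ a = 1`.
Aux names: prefix `piygcomp_`.  Keep statements, names, namespace exactly; you may add imports.
-/

set_option autoImplicit false

namespace Cfsg.Agent.Helper22.PIY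

open Cfsg Cfsg.FusionSystem Cfsg.Agent.Helper25 Cfsg.Agent.Helper26 Cfsg.Agent.Helper3.PIX
  Cfsg.Agent.Helper25.OPE

variable {Ω : Type*} [Group Ω] {S : Subgroup Ω} {p : ℕ} {F : FusionSystem S} {T : Subgroup Ω}
  {E : FusionSystem T} {Δ : Type*} [Group Δ] {χ : ↥(F.autGroup T) →* Δ}

theorem good_comp (h : Setup p F E χ) {P Q : Subgroup Ω} {φ : P →* Ω} {ψ : Q →* Ω}
    (hφ : φ ∈ F.Hom P) (hψ : ψ ∈ F.Hom Q) (h1 : Good F E χ P φ) (h2 : Good F E χ Q ψ)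
    (hh : ∀ x : P, φ x ∈ Q) : Good F E χ P (ψ.comp (φ.codRestrict Q hh)) := by
  obtain ⟨a₁, hχ1, φ₁, hφ₁, hφ₁v⟩ := h1
  obtain ⟨a₂, hχ2, ψ₂, hψ₂, hψ₂v⟩ := h2
  have hAI : AutInv F E := h.hAI
  have hT := h.hT
  have hTS : T ≤ S := hT.1
  have hφ₁T := (E.le_of_mem hφ₁).2
  have hψ₂T := (E.le_of_mem hψ₂).2
  obtain ⟨κ, hκ, hκv⟩ := hAI (Subgroup.inv_mem _ a₁.2) (inf_le_right : Q ⊓ T ≤ T) hψ₂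
  -- `φ` maps `P ∩ T` into `Q ∩ T`
  have hφQT : ∀ x : ↥(P ⊓ T), φ ⟨x, x.2.1⟩ ∈ Q ⊓ T := by
    intro x
    refine ⟨hh _, ?_⟩
    rw [hφ₁v]
    exact Subtype.property _
  have hφ₁eq : ∀ x : ↥(P ⊓ T),
      φ₁ x = ((((a₁ : MulAut ↥T))⁻¹ ⟨φ ⟨x, x.2.1⟩, (hφQT x).2⟩ : T) : Ω) := by
    intro x
    have e : (⟨φ ⟨x, x.2.1⟩, (hφQT x).2⟩ : T) = (a₁ : MulAut ↥T) ⟨φ₁ x, hφ₁T x⟩ :=
      Subtype.ext (hφ₁v x)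
    rw [e]
    simp
  have hmem : ∀ x : ↥(P ⊓ T), φ₁ x ∈
      ((Q ⊓ T).subgroupOf T).map (T.subtype.comp ((a₁ : MulAut ↥T)⁻¹ : MulAut T).toMonoidHom) := by
    intro x
    rw [hφ₁eq]
    exact mem_map_aut (inf_le_right : Q ⊓ T ≤ T) (a₁ : MulAut ↥T)⁻¹ ⟨φ ⟨x, x.2.1⟩, hφQT x⟩
  refine ⟨a₂ * a₁, by rw [map_mul, hχ2, hχ1, mul_one], κ.comp (φ₁.codRestrict _ hmem),
    E.comp_mem hφ₁ hκ hmem, fun x => ?_⟩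
  show ψ ⟨φ ⟨x, x.2.1⟩, hh _⟩ =
    (((a₂ : MulAut ↥T) ((a₁ : MulAut ↥T) ⟨κ ⟨φ₁ x, hmem x⟩, _⟩) : T) : Ω)
  have e1 : (⟨φ₁ x, hmem x⟩ : ↥(((Q ⊓ T).subgroupOf T).map
      (T.subtype.comp ((a₁ : MulAut ↥T)⁻¹ : MulAut T).toMonoidHom))) =
      ⟨((((a₁ : MulAut ↥T))⁻¹ ⟨((⟨φ ⟨x, x.2.1⟩, hφQT x⟩ : ↥(Q ⊓ T)) : Ω), (hφQT x).2⟩ : T) : Ω),
        mem_map_aut (inf_le_right : Q ⊓ T ≤ T) (a₁ : MulAut ↥T)⁻¹ ⟨φ ⟨x, x.2.1⟩, hφQT x⟩⟩ :=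
    Subtype.ext (hφ₁eq x)
  have e2 := hκv ⟨φ ⟨x, x.2.1⟩, hφQT x⟩
  have e3 : ((a₁ : MulAut ↥T) ⟨κ ⟨φ₁ x, hmem x⟩, (E.le_of_mem hκ).2 _⟩ : T) =
      ⟨ψ₂ ⟨φ ⟨x, x.2.1⟩, hφQT x⟩, hψ₂T _⟩ := by
    rw [← MulEquiv.eq_symm_apply]
    apply Subtype.ext
    show κ ⟨φ₁ x, hmem x⟩ = _
    rw [e1, e2]
    rfl
  have e4 := hψ₂v ⟨φ ⟨x, x.2.1⟩, hφQT x⟩
  rw [e4]
  congr 2
  exact e3.symm

end Cfsg.Agent.Helper22.PIY
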