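import Mathlib
import Cfsg.Agent.Lib.PIY.PIYDefs

/-!
# PIY-GINV (S5243, specific half; done by helper15): `Good` is stable under inverses.
RECIPE.  COPY of the proof of `Helper25.frattiniPr_inv` (`Lib/Helper25/FusionInvariant.lean` l.135-184) with
`hAI := h.hAI`, `hT := h.hT`: its witness is `α⁻¹` (check in the source); in addition
`χ ⟨α⁻¹, _⟩ = (χ ⟨α, _⟩)⁻¹ = 1` (`map_inv`, `inv_one`).
`Good` is helper3's (`Lib/PIX/PIXFam.lean`): `∃ a : ↥(F.autGroup T), χ a = 1 ∧ ∃ φ₀, ∃ h : φ₀ ∈ E.Hom (P ⊓ T), ∀ x, φ ⟨x, x.2.1⟩ =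
(a : MulAut T) ⟨φ₀ x, _⟩` - i.e. `Helper25.FrattiniPr` with the pair `(α, hα)` bundled as `a = ⟨α, hα⟩` plus `χ a = 1`.
Aux names: prefix `piyginv_`.  Keep statements, names, namespace exactly; you may add imports.
-/

set_option autoImplicit false

namespace Cfsg.Agent.Helper22.PIY

open Cfsg Cfsg.FusionSystem Cfsg.Agent.Helper25 Cfsg.Agent.Helper26 Cfsg.Agent.Helper3.PIX
  Cfsg.Agent.Helper25.OPE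

variable {Ω : Type*} [Group Ω] {S : Subgroup Ω} {p : ℕ} {F : FusionSystem S} {T : Subgroup Ω}
  {E : FusionSystem T} {Δ : Type*} [Group Δ] {χ : ↥(F.autGroup T) →* Δ}

theorem good_inv (h : Setup p F E χ) {P : Subgroup Ω} {φ : P →* Ω} (hφ : φ ∈ F.Hom P)
    (h1 : Good F E χ P φ) (ψ : φ.range →* Ω) (hψ : ψ ∈ F.Hom φ.range)
    (hinv : ∀ x : P, ψ ⟨φ x, ⟨x, rfl⟩⟩ = (x : Ω)) : Good F E χ φ.range ψ := by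
  obtain ⟨a, hχa, φ₁, hφ₁, hφ₁v⟩ := h1
  have hAI : AutInv F E := h.hAI
  have hT := h.hT
  have hTS : T ≤ S := hT.1
  have hφ₁T := (E.le_of_mem hφ₁).2
  obtain ⟨θ₁, hθ₁, hθ₁v⟩ := E.inv_mem hφ₁
  have hθ₁T := (E.le_of_mem hθ₁).2
  have hr₁T : φ₁.range ≤ T := range_le E hφ₁
  obtain ⟨κ, hκ, hκv⟩ := hAI a.2 hr₁T hθ₁
  -- preimages of elements of `φ(P) ∩ T` lie in `T`
  have hxT : ∀ x : P, φ x ∈ T → (x : Ω) ∈ T := by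
    intro x hx
    have h2 := hT.2 (φ.range ⊓ T) inf_le_right (ψ.comp (Subgroup.inclusion inf_le_left))
      (restrict_mem F inf_le_left hψ) ⟨φ x, ⟨⟨x, rfl⟩, hx⟩⟩
    have e : (ψ.comp (Subgroup.inclusion (inf_le_left : φ.range ⊓ T ≤ φ.range)))
        ⟨φ x, ⟨⟨x, rfl⟩, hx⟩⟩ = ψ ⟨φ x, ⟨x, rfl⟩⟩ := rfl
    rw [e, hinv] at h2
    exact h2
  have hle : φ.range ⊓ T ≤
      (φ₁.range.subgroupOf T).map (T.subtype.comp (a : MulAut ↥T).toMonoidHom) := by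
    rintro y ⟨⟨x, rfl⟩, hyT⟩
    have h3 := hφ₁v ⟨x, ⟨x.2, hxT x hyT⟩⟩
    have e : (⟨((⟨(x : Ω), ⟨x.2, hxT x hyT⟩⟩ : ↥(P ⊓ T)) : Ω), x.2⟩ : P) = x := Subtype.ext rfl
    rw [e] at h3
    rw [h3]
    exact mem_map_aut hr₁T (a : MulAut ↥T) ⟨φ₁ ⟨x, ⟨x.2, hxT x hyT⟩⟩, ⟨_, rfl⟩⟩
  refine ⟨a⁻¹, by rw [map_inv, hχa, inv_one], κ.comp (Subgroup.inclusion hle),
    restrict_mem E hle hκ, fun y => ?_⟩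
  obtain ⟨y, ⟨x, rfl⟩, hyT⟩ := y
  show ψ ⟨φ x, _⟩ = ((((a : MulAut ↥T))⁻¹ ⟨κ ⟨φ x, _⟩, _⟩ : T) : Ω)
  rw [hinv]
  have h3 := hφ₁v ⟨x, ⟨x.2, hxT x hyT⟩⟩
  have e : (⟨((⟨(x : Ω), ⟨x.2, hxT x hyT⟩⟩ : ↥(P ⊓ T)) : Ω), x.2⟩ : P) = x := Subtype.ext rfl
  rw [e] at h3
  have h4 := hκv ⟨φ₁ ⟨x, ⟨x.2, hxT x hyT⟩⟩, ⟨_, rfl⟩⟩
  have e7 : (⟨θ₁ ⟨φ₁ ⟨x, ⟨x.2, hxT x hyT⟩⟩, ⟨_, rfl⟩⟩, hθ₁T _⟩ : T) = ⟨x, hxT x hyT⟩ :=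
    Subtype.ext (hθ₁v _)
  rw [e7] at h4
  have e5 : (⟨κ ⟨φ x, hle ⟨⟨x, rfl⟩, hyT⟩⟩, (E.le_of_mem hκ).2 _⟩ : T) =
      (a : MulAut ↥T) ⟨x, hxT x hyT⟩ := by
    apply Subtype.ext
    show κ ⟨φ x, _⟩ = (((a : MulAut ↥T) ⟨x, hxT x hyT⟩ : T) : Ω)
    rw [← h4]
    congr 1
    exact Subtype.ext h3
  have e6 : (((a : MulAut ↥T))⁻¹ ⟨κ ⟨φ x, hle ⟨⟨x, rfl⟩, hyT⟩⟩, (E.le_of_mem hκ).2 _⟩ : T) =
      ⟨x, hxT x hyT⟩ := by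
    rw [e5]; simp
  exact (congrArg Subtype.val e6).symm

end Cfsg.Agent.Helper22.PIY
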