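import Mathlib
import Cfsg.Agent.Lib.PIY.PIYGConj
import Cfsg.Agent.Lib.PIY.PIYGComp
import Cfsg.Agent.Lib.PIY.PIYGInv
import Cfsg.Agent.Lib.Helper25.FusionAlperin2

/-!
# S5243, specific half: the system `Dchi` of the `Good` maps of `F` (definition, helper22).
-/

set_option autoImplicit false

namespace Cfsg.Agent.Helper22.PIY

open Cfsg Cfsg.FusionSystem Cfsg.Agent.Helper25 Cfsg.Agent.Helper26 Cfsg.Agent.Helper3.PIX
  Cfsg.Agent.Helper25.OPE

variable {Ω : Type*} [Group Ω] {S : Subgroup Ω} {p : ℕ} {F : FusionSystem S} {T : Subgroup Ω}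
  {E : FusionSystem T} {Δ : Type*} [Group Δ] {χ : ↥(F.autGroup T) →* Δ}

/-- The subsystem of `F` of the `Good` maps. -/
def Dchi [Finite Δ] (h : Setup p F E χ) : FusionSystem S :=
  predSub F (Good F E χ) (fun hP hg => good_conj h hP hg)
    (fun hφ hψ h1 h2 hh => good_comp h hφ hψ h1 h2 hh)
    (fun hφ h1 ψ hψ hinv => good_inv h hφ h1 ψ hψ hinv)

theorem mem_Dchi [Finite Δ] {h : Setup p F E χ} {P : Subgroup Ω} {φ : P →* Ω} :
    φ ∈ (Dchi h).Hom P ↔ φ ∈ F.Hom P ∧ Good F E χ P φ := Iff.rfl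

theorem Dchi_le [Finite Δ] (h : Setup p F E χ) : (Dchi h).IsSubsystemOf F := fun _ _ hφ => hφ.1

end Cfsg.Agent.Helper22.PIY
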