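import Mathlib
import Cfsg.Agent.Lib.PIY.PIYDchi
import Cfsg.Agent.Lib.PIY.PIYChiExt
import Cfsg.Agent.Lib.PIX.PIXRes
import Cfsg.Agent.Lib.Helper3.WClos1

/-!
# PIY-AUTD (S5243, specific half): `Aut_Dchi(S) = Hchi`.
RECIPE.
* `good_of_hchi`: `Hchi` is helper3's (`Lib/PIX/PIXChi.lean`, `mem_hchi : Iff.rfl`).  `ha = ⟨_, β, hβ, hv⟩`; witness `a := β`, `φ₀ := (S ⊓ T).subtype` (`subtype_mem E inf_le_right`);
  for `x ∈ S ⊓ T`: `a ⟨x,_⟩ = β ⟨x,_⟩` by `hv`.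
* `hchi_of_good`: `hg` gives `α : ↥(F.autGroup T)`, `χ α = 1`, `φ₀ ∈ E.Hom (S ⊓ T)`, `a x = α (φ₀ x)` on `S ⊓ T`.
  `exists_restrict_aut F h.hTS h.hT ha` (`Lib/PIX/PIXRes.lean`, by statement) gives `β : ↥(F.autGroup T)` with `β t = a ⟨t,_⟩`.  `b := α⁻¹ * β.1`; then
  `resAut b (S ⊓ T) inf_le_right = φ₀ ∈ E.Hom (S ⊓ T)` (`MonoidHom.ext`), and `S ⊓ T` is `E`-centric:
  `S ⊓ T = T` (`inf_eq_right.mpr h.hTS`; rewrite the Prop `E.IsCentric (S ⊓ T)`), and `T` is `E`-centric (the only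
  conjugate of `T` in a system over the finite `T` is `T`; `C_T(T) ≤ T`).  `chi_ext` gives `χ ⟨b,_⟩ = 1`, hence
  `χ β = 1` (`map_mul`, `map_inv`).  So `a ∈ Hchi` with witness `β` (`mem_hchi`).
* `autGroup_Dchi_top`: `ext a`; `mem_autGroup_iff (Dchi h) le_rfl`, `mem_Dchi`, `mem_autGroup_iff F le_rfl`, `mem_hchi`.
Aux names: prefix `piyautd_`.  Keep statements, names, namespace exactly; you may add imports.
-/

set_option autoImplicit false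

namespace Cfsg.Agent.Helper22.PIY

open Cfsg Cfsg.FusionSystem Cfsg.Agent.Helper25 Cfsg.Agent.Helper26 Cfsg.Agent.Helper3.PIX
  Cfsg.Agent.Helper25.OPE

variable {Ω : Type*} [Group Ω] {S : Subgroup Ω} {p : ℕ} {F : FusionSystem S} {T : Subgroup Ω}
  {E : FusionSystem T} {Δ : Type*} [Group Δ] {χ : ↥(F.autGroup T) →* Δ}

theorem good_of_hchi (h : Setup p F E χ) {a : MulAut ↥S} (ha : a ∈ Hchi F h.hTS χ) :
    Good F E χ S (S.subtype.comp a.toMonoidHom) := by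
  obtain ⟨-, β, hβ, hv⟩ := ha
  refine ⟨β, hβ, (S ⊓ T).subtype, subtype_mem E inf_le_right, fun x => ?_⟩
  exact (hv ⟨x, x.2.2⟩).symm

theorem hchi_of_good [Finite S] [Fact p.Prime] [Finite Δ] (h : Setup p F E χ) {a : MulAut ↥S}
    (ha : a ∈ F.autGroup S) (hg : Good F E χ S (S.subtype.comp a.toMonoidHom)) :
    a ∈ Hchi F h.hTS χ := by
  obtain ⟨α, hχα, φ₀, hφ₀, hx⟩ := hg
  obtain ⟨β, hβ⟩ := exists_restrict_aut F h.hTS h.hT ha
  have hT : Finite T := finite_of_le_finite h.hTS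
  have hST : S ⊓ T = T := inf_eq_right.mpr h.hTS
  have hc : E.IsCentric (S ⊓ T) := by
    rw [hST]
    exact Cfsg.Agent.Helper3.WC.isCentric_self E
  have hb : (α : MulAut ↥T)⁻¹ * (β : MulAut ↥T) ∈ F.autGroup T :=
    mul_mem (inv_mem α.2) β.2
  have hres : resAut ((α : MulAut ↥T)⁻¹ * (β : MulAut ↥T)) (S ⊓ T) hc.1 = φ₀ := by
    apply MonoidHom.ext
    intro x
    rw [resAut_apply]
    have e1 : (β : MulAut ↥T) ⟨(x : Ω), hc.1 x.2⟩ =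
        (α : MulAut ↥T) ⟨φ₀ x, (E.le_of_mem hφ₀).2 x⟩ := by
      apply Subtype.ext
      rw [hβ]
      exact hx x
    show ((((α : MulAut ↥T)⁻¹) ((β : MulAut ↥T) ⟨(x : Ω), hc.1 x.2⟩) : ↥T) : Ω) = φ₀ x
    rw [e1, MulAut.inv_apply_self]
  have h1 : χ ⟨(α : MulAut ↥T)⁻¹ * (β : MulAut ↥T), hb⟩ = 1 := by
    apply chi_ext h hb hc
    rw [hres]
    exact hφ₀
  have h2 : (⟨(α : MulAut ↥T)⁻¹ * (β : MulAut ↥T), hb⟩ : ↥(F.autGroup T)) = α⁻¹ * β :=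
    Subtype.ext rfl
  rw [h2, map_mul, map_inv, hχα, inv_one, one_mul] at h1
  exact ⟨ha, β, h1, hβ⟩

theorem autGroup_Dchi_top [Finite S] [Fact p.Prime] [Finite Δ] (h : Setup p F E χ) :
    (Dchi h).autGroup S = Hchi F h.hTS χ := by
  ext a
  rw [mem_autGroup_iff (Dchi h) le_rfl, mem_Dchi]
  constructor
  · rintro ⟨hF, hg⟩
    exact hchi_of_good h ((mem_autGroup_iff F le_rfl a).mpr hF) hg
  · intro ha
    exact ⟨(mem_autGroup_iff F le_rfl a).mp ha.1, good_of_hchi h ha⟩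

end Cfsg.Agent.Helper22.PIY
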