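import Mathlib
import Cfsg.Agent.Lib.PIY.PIYDchi
import Cfsg.Agent.Lib.PIY.PIYChiExt

/-!
# PIY-GEXT (S5243, specific half): `Good` extends from a member of `famHH F E` to an overgroup (the field `ext` of `AdmH`).
RECIPE.  Frattini clause of `h.hinv` (4th component) for `ψ` restricted to `R ⊓ T ≤ T`: `a ∈ F.autGroup T`,
`φ₁ ∈ E.Hom (R ⊓ T)`, `ψ x = a (φ₁ x)` on `R ⊓ T`.  `hg` gives `a₁`, `χ ⟨a₁,_⟩ = 1`, `φ₀ ∈ E.Hom (P ⊓ T)` with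
`ψ x = a₁ (φ₀ x)` on `P ⊓ T`.  Let `φ₁' := φ₁` restricted to `P ⊓ T ≤ R ⊓ T`, `Q₁ := φ₁'.range` - an `E`-conjugate of
`P ⊓ T`, which is `E`-centric (`hP.2`; `famHH`, `Lib/PIX/PIXFam.lean`), so `Q₁` is `E`-centric
(`Helper25.isCentric_of_isConj E`).  `b := a₁⁻¹ * a`: for `y = φ₁ x ∈ Q₁`, `b y = a₁⁻¹ (ψ x) = φ₀ x`, so
`resAut b Q₁ _ = φ₀ ∘ (φ₁')⁻¹ ∈ E.Hom Q₁` (`E.inv_mem`, `comp_mem' E`).  `chi_ext h _ hQ₁ _` gives `χ ⟨b,_⟩ = 1`;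
`map_mul`, `map_inv` give `χ ⟨a,_⟩ = 1`.  Conclude `Good F E χ R ψ` (`Lib/PIX/PIXFam.lean`: `∃ a : ↥(F.autGroup T), χ a = 1 ∧ ...`) with `(⟨a,_⟩, φ₁)`.
Aux names: prefix `piygext_`.  Keep statements, names, namespace exactly; you may add imports.
-/

set_option autoImplicit false

namespace Cfsg.Agent.Helper22.PIY

open Cfsg Cfsg.FusionSystem Cfsg.Agent.Helper25 Cfsg.Agent.Helper26 Cfsg.Agent.Helper3.PIX
  Cfsg.Agent.Helper25.OPE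

variable {Ω : Type*} [Group Ω] {S : Subgroup Ω} {p : ℕ} {F : FusionSystem S} {T : Subgroup Ω}
  {E : FusionSystem T} {Δ : Type*} [Group Δ] {χ : ↥(F.autGroup T) →* Δ}

theorem good_ext [Finite S] [Fact p.Prime] [Finite Δ] (h : Setup p F E χ) {R : Subgroup Ω}
    {ψ : R →* Ω} (hψ : ψ ∈ F.Hom R) {P : Subgroup Ω} (hPR : P ≤ R) (hP : P ∈ famHH F E)
    (hg : Good F E χ P (ψ.comp (Subgroup.inclusion hPR))) : Good F E χ R ψ := by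
  -- Frattini clause for the restriction of `ψ` to `R ⊓ T`
  have hψR : ψ.comp (Subgroup.inclusion (inf_le_left : R ⊓ T ≤ R)) ∈ F.Hom (R ⊓ T) :=
    restrict_mem F inf_le_left hψ
  obtain ⟨α, hα, φ₁, hφ₁, hfr⟩ := h.hinv.2.2.2 (R ⊓ T) inf_le_right _ hψR
  have hφ₁T : ∀ x : ↥(R ⊓ T), φ₁ x ∈ T := (E.le_of_mem hφ₁).2
  obtain ⟨a₁, hχa₁, φ₀, hφ₀, hgd⟩ := hg
  have hφ₀T : ∀ x : ↥(P ⊓ T), φ₀ x ∈ T := (E.le_of_mem hφ₀).2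
  have hle : P ⊓ T ≤ R ⊓ T := inf_le_inf_right T hPR
  have hφ₁' : φ₁.comp (Subgroup.inclusion hle) ∈ E.Hom (P ⊓ T) := restrict_mem E hle hφ₁
  have hQ₁c : E.IsCentric (φ₁.comp (Subgroup.inclusion hle)).range :=
    isCentric_of_isConj E hP.2 ⟨_, hφ₁', rfl⟩
  -- the restriction of `b = a₁⁻¹ * α` to `Q₁` is a map of `E`
  have hbmem : ((a₁⁻¹ * ⟨α, hα⟩ : ↥(F.autGroup T)) : MulAut ↥T) ∈ F.autGroup T :=
    (a₁⁻¹ * ⟨α, hα⟩ : ↥(F.autGroup T)).2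
  have hres : resAut ((a₁⁻¹ * ⟨α, hα⟩ : ↥(F.autGroup T)) : MulAut ↥T)
      (φ₁.comp (Subgroup.inclusion hle)).range hQ₁c.1 ∈
      E.Hom (φ₁.comp (Subgroup.inclusion hle)).range := by
    obtain ⟨θ, hθ, hθinv⟩ := E.inv_mem hφ₁'
    have hθm : ∀ y : ↥(φ₁.comp (Subgroup.inclusion hle)).range, θ y ∈ P ⊓ T := by
      rintro ⟨_, x, rfl⟩
      rw [hθinv x]
      exact x.2
    refine comp_mem' E hθ hφ₀ hθm (fun y => ?_)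
    obtain ⟨_, x, rfl⟩ := y
    have e1 : (⟨θ ⟨(φ₁.comp (Subgroup.inclusion hle)) x, ⟨x, rfl⟩⟩,
        hθm ⟨(φ₁.comp (Subgroup.inclusion hle)) x, ⟨x, rfl⟩⟩⟩ : ↥(P ⊓ T)) = x :=
      Subtype.ext (hθinv x)
    rw [e1]
    have hx' : φ₁ (Subgroup.inclusion hle x) ∈ T := hφ₁T _
    have hM : resAut ((a₁⁻¹ * ⟨α, hα⟩ : ↥(F.autGroup T)) : MulAut ↥T)
        (φ₁.comp (Subgroup.inclusion hle)).range hQ₁c.1
        ⟨(φ₁.comp (Subgroup.inclusion hle)) x, ⟨x, rfl⟩⟩ =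
        ((((a₁ : MulAut ↥T)⁻¹) (α ⟨φ₁ (Subgroup.inclusion hle x), hx'⟩) : ↥T) : Ω) := rfl
    rw [hM]
    have h1 := hfr (Subgroup.inclusion hle x) hx'
    have h2 := hgd x
    have h3 : (α ⟨φ₁ (Subgroup.inclusion hle x), hx'⟩ : ↥T) =
        (a₁ : MulAut ↥T) ⟨φ₀ x, hφ₀T x⟩ := by
      apply Subtype.ext
      rw [← h1]
      exact h2
    rw [h3]
    simp
  have hχb := chi_ext h hbmem hQ₁c hres
  have hχα : χ ⟨α, hα⟩ = 1 := by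
    have e : (⟨((a₁⁻¹ * ⟨α, hα⟩ : ↥(F.autGroup T)) : MulAut ↥T), hbmem⟩ : ↥(F.autGroup T)) =
        a₁⁻¹ * ⟨α, hα⟩ := rfl
    rw [e, map_mul, map_inv, hχa₁, inv_one, one_mul] at hχb
    exact hχb
  exact ⟨⟨α, hα⟩, hχα, φ₁, hφ₁, fun x => hfr x (hφ₁T x)⟩

end Cfsg.Agent.Helper22.PIY
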