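import Mathlib
import Cfsg.Agent.Lib.PIY.PIYDchi
import Cfsg.Agent.Lib.PIY.PIYChiExt
import Cfsg.Agent.Lib.Helper25.FusionPrimeIndex2

/-!
# PIY-GOP (S5243, specific half): `p`-elements of `Aut_F(P)`, `P ∈ famHH F E`, are `Good`; `O^{p'}(Aut_F(P)) ≤ Aut_Dchi(P)`.
RECIPE for `good_of_orderOf`.  `Q := P ⊓ T`, `hQc : E.IsCentric Q := hP.2` (`famHH`, `Lib/PIX/PIXFam.lean`).
`φ := P.subtype.comp γ.toMonoidHom ∈ F.Hom P` (`mem_autGroup_iff F hP.1.1`).  Frattini clause of `h.hinv`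
(4th component) applied to `φ` restricted to `Q ≤ T` gives `a ∈ F.autGroup T`, `ε ∈ E.Hom Q` with
`γ x = a (ε x)` for `x ∈ Q`.  `γ` restricts to `θ₀ : MulAut Q` (`Helper25.resT h.hT P hP.1.1 ⟨γ, hγ⟩`,
`Lib/Helper25/FusionInvariant.lean` l.186), `θ₀ ^ p ^ k = 1` (`map_pow`, `pow_orderOf_eq_one`).
With `a' := a⁻¹`, `θ := θ₀⁻¹`: `ε (θ g) = a' g` for `g ∈ Q`, i.e. the hypothesis of
`OPE.pow_decomp F h.hTS E h.hinv (inv_mem ha) inf_le_right hε θ` (`Lib/OPE/OPEPow.lean`, by statement); at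
`i = p ^ k`, `θ ^ i = 1`, so `resAut (a' ^ p ^ k) Q _ = Ε ∈ E.Hom Q`.  `chi_ext h _ hQc _` gives
`χ ⟨a' ^ p ^ k, _⟩ = 1`, so `(χ ⟨a, _⟩)⁻¹ ^ p ^ k = 1` and `χ ⟨a, ha⟩ = 1` (orders coprime, as in
`chi_eq_one_of_pow`; or apply `chi_ext`-free: `orderOf` divides `p^k` and `Nat.card Δ`).  Then `Good` (`Lib/PIX/PIXFam.lean`: `∃ a : ↥(F.autGroup T), χ a = 1 ∧ ...`) with `(⟨a, ha⟩, ε)`.
`opPrime_le_Dchi`: `OpPrime_eq_closure`, `Subgroup.closure_le`; a generator `γ` lies in `(Dchi h).autGroup P` by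
`mem_autGroup_iff (Dchi h) hP.1.1`, `mem_Dchi`, `good_of_orderOf`.
Aux names: prefix `piygop_`.  Keep statements, names, namespace exactly; you may add imports.
-/

set_option autoImplicit false

namespace Cfsg.Agent.Helper22.PIY

open Cfsg Cfsg.FusionSystem Cfsg.Agent.Helper25 Cfsg.Agent.Helper26 Cfsg.Agent.Helper3.PIX
  Cfsg.Agent.Helper25.OPE

variable {Ω : Type*} [Group Ω] {S : Subgroup Ω} {p : ℕ} {F : FusionSystem S} {T : Subgroup Ω}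
  {E : FusionSystem T} {Δ : Type*} [Group Δ] {χ : ↥(F.autGroup T) →* Δ}

theorem good_of_orderOf [Finite S] [Fact p.Prime] [Finite Δ] (h : Setup p F E χ) {P : Subgroup Ω}
    (hP : P ∈ famHH F E) {γ : MulAut ↥P} (hγ : γ ∈ F.autGroup P) {k : ℕ}
    (hk : orderOf γ = p ^ k) : Good F E χ P (P.subtype.comp γ.toMonoidHom) := by
  have hPS : P ≤ S := hP.1.1
  have hQc : E.IsCentric (P ⊓ T) := hP.2
  have hφ : P.subtype.comp γ.toMonoidHom ∈ F.Hom P := (mem_autGroup_iff F hPS γ).mp hγ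
  have hφQ := restrict_mem F (inf_le_left : P ⊓ T ≤ P) hφ
  obtain ⟨a, ha, ε, hε, hγε⟩ := h.hinv.2.2.2 (P ⊓ T) inf_le_right _ hφQ
  have hεT : ∀ x : ↥(P ⊓ T), ε x ∈ T := (E.le_of_mem hε).2
  -- the restriction of `γ` to `P ⊓ T`
  have hθ₀pow : (resT h.hT P hPS ⟨γ, hγ⟩) ^ p ^ k = 1 := by
    rw [← map_pow]
    have e : (⟨γ, hγ⟩ : ↥(F.autGroup P)) ^ p ^ k = 1 := by
      apply Subtype.ext
      show γ ^ p ^ k = 1
      rw [← hk]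
      exact pow_orderOf_eq_one γ
    rw [e, map_one]
  have hθ : ∀ g : ↥(P ⊓ T), ε ((resT h.hT P hPS ⟨γ, hγ⟩)⁻¹ g) =
      resAut a⁻¹ (P ⊓ T) inf_le_right g := by
    intro g
    have h1 := hγε ((resT h.hT P hPS ⟨γ, hγ⟩)⁻¹ g) (hεT _)
    have h2 : ((P.subtype.comp γ.toMonoidHom).comp (Subgroup.inclusion
        (inf_le_left : P ⊓ T ≤ P))) ((resT h.hT P hPS ⟨γ, hγ⟩)⁻¹ g) = (g : Ω) := by
      show (((resT h.hT P hPS ⟨γ, hγ⟩) ((resT h.hT P hPS ⟨γ, hγ⟩)⁻¹ g) : ↥(P ⊓ T)) : Ω) = (g : Ω)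
      rw [MulAut.apply_inv_self]
    rw [h2] at h1
    have h3 : (⟨(g : Ω), g.2.2⟩ : ↥T) =
        a ⟨ε ((resT h.hT P hPS ⟨γ, hγ⟩)⁻¹ g), hεT _⟩ := Subtype.ext h1
    show ε ((resT h.hT P hPS ⟨γ, hγ⟩)⁻¹ g) = ((a⁻¹ ⟨(g : Ω), g.2.2⟩ : ↥T) : Ω)
    rw [h3, MulAut.inv_apply_self]
  obtain ⟨Ε, hΕ, hΕe⟩ := pow_decomp F h.hTS E h.hinv (inv_mem ha) inf_le_right hε
    ((resT h.hT P hPS ⟨γ, hγ⟩)⁻¹) hθ (p ^ k)
  have hres : resAut (a⁻¹ ^ p ^ k) (P ⊓ T) hQc.1 ∈ E.Hom (P ⊓ T) := by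
    have e : resAut (a⁻¹ ^ p ^ k) (P ⊓ T) hQc.1 = Ε := by
      ext g
      have h1 := hΕe g
      rw [inv_pow, hθ₀pow, inv_one] at h1
      exact h1.symm
    rw [e]; exact hΕ
  have hb : a⁻¹ ^ p ^ k ∈ F.autGroup T := pow_mem (inv_mem ha) _
  have hχb : χ ⟨a⁻¹ ^ p ^ k, hb⟩ = 1 := chi_ext h hb hQc hres
  have hχa : χ ⟨a, ha⟩ = 1 := by
    have e : (⟨a⁻¹ ^ p ^ k, hb⟩ : ↥(F.autGroup T)) = (⟨a, ha⟩ : ↥(F.autGroup T))⁻¹ ^ p ^ k :=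
      Subtype.ext rfl
    rw [e, map_pow, map_inv, inv_pow, inv_eq_one] at hχb
    have h1 : orderOf (χ ⟨a, ha⟩) ∣ p ^ k := orderOf_dvd_of_pow_eq_one hχb
    have h2 : orderOf (χ ⟨a, ha⟩) ∣ Nat.card Δ := orderOf_dvd_natCard _
    have h3 : Nat.Coprime (orderOf (χ ⟨a, ha⟩)) (p ^ k) :=
      Nat.Coprime.coprime_dvd_left h2 (Nat.Coprime.pow_right k h.hΔ)
    have h4 : orderOf (χ ⟨a, ha⟩) = 1 := Nat.Coprime.eq_one_of_dvd h3 h1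
    exact orderOf_eq_one_iff.mp h4
  exact ⟨⟨a, ha⟩, hχa, ε, hε, fun x => hγε x _⟩

theorem opPrime_le_Dchi [Finite S] [Fact p.Prime] [Finite Δ] (h : Setup p F E χ) {P : Subgroup Ω}
    (hP : P ∈ famHH F E) : OpPrime F p P ≤ (Dchi h).autGroup P := by
  have hPS : P ≤ S := hP.1.1
  rw [OpPrime_eq_closure, Subgroup.closure_le]
  rintro γ ⟨hγ, k, hk⟩
  rw [SetLike.mem_coe, mem_autGroup_iff (Dchi h) hPS]
  exact mem_Dchi.mpr ⟨(mem_autGroup_iff F hPS γ).mp hγ, good_of_orderOf h hP hγ hk⟩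

end Cfsg.Agent.Helper22.PIY
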