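import Mathlib
import Cfsg.Agent.Lib.PIY.PIYGOp
import Cfsg.Agent.Lib.PIY.PIYGExt
import Cfsg.Agent.Lib.PIY.PIYAutD

/-!
# S5243, specific half: `Dchi` is `AdmH` (assembly, helper22).
-/

set_option autoImplicit false

namespace Cfsg.Agent.Helper22.PIY

open Cfsg Cfsg.FusionSystem Cfsg.Agent.Helper25 Cfsg.Agent.Helper26 Cfsg.Agent.Helper3.PIX
  Cfsg.Agent.Helper25.OPE

variable {Ω : Type*} [Group Ω] {S : Subgroup Ω} {p : ℕ} {F : FusionSystem S} {T : Subgroup Ω}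
  {E : FusionSystem T} {Δ : Type*} [Group Δ] {χ : ↥(F.autGroup T) →* Δ}

theorem admH_Dchi [Finite S] [Fact p.Prime] [Finite Δ] (h : Setup p F E χ) :
    AdmH F p (famHH F E) (Hchi F h.hTS χ) (Dchi h) where
  le _ _ hφ := hφ.1
  op P hP := opPrime_le_Dchi h hP
  ext R ψ hψ P hPR hPH hres := ⟨hψ, good_ext h hψ hPR hPH hres.2⟩
  aut := (autGroup_Dchi_top h).ge

end Cfsg.Agent.Helper22.PIY
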