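import Mathlib
import Cfsg.Agent.Lib.PIX.PIXFinal
import Cfsg.Agent.Lib.PIY.PIYAdm
import Cfsg.Agent.Lib.PIX.PIXFamHyp

/-!
# S5243: the two halves plugged together (helper22; for helper3's final `S5243.lean`).
-/

set_option autoImplicit false

namespace Cfsg.Agent.Helper22.PIY

open Cfsg Cfsg.FusionSystem Cfsg.Agent.Helper25 Cfsg.Agent.Helper26 Cfsg.Agent.Helper3.PIX
  Cfsg.Agent.Helper25.OPE

variable {Ω : Type*} [Group Ω] {S : Subgroup Ω} {p : ℕ} {F : FusionSystem S} {T : Subgroup Ω}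
  {E : FusionSystem T} {Δ : Type*} [Group Δ] {χ : ↥(F.autGroup T) →* Δ}

theorem s5243_full [Finite S] (p : ℕ) [Fact p.Prime] (hS : IsPGroup p S)
    (F : FusionSystem S) (hF : F.IsSaturated p) {T : Subgroup Ω} (hTS : T ≤ S)
    (E : FusionSystem T) (hE : E.IsNormalIn F p) {Δ : Type*} [Group Δ] [Finite Δ] [Nontrivial Δ]
    (hΔ : (Nat.card Δ).Coprime p) (χ : ↥(F.autGroup T) →* Δ) (hχ : Function.Surjective χ)
    (hker : (E.autGroup T).subgroupOf (F.autGroup T) ≤ χ.ker) :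
    ∃ F₀ : Cfsg.FusionSystem S, F₀.IsNormalIn F p ∧ ¬ (∀ P : Subgroup Ω, F₀.Hom P = F.Hom P) ∧
      E.IsSubsystemOf F₀ ∧
      (∀ α : MulAut ↥S, α ∈ F₀.autGroup S ↔ α ∈ F.autGroup S ∧ ∃ β : ↥(F.autGroup T), χ β = 1 ∧
        ∀ t : ↥T, (((β : MulAut ↥T) t : ↥T) : Ω) = ((α ⟨(t : Ω), hTS t.2⟩ : ↥S) : Ω)) ∧
      ∀ R : Cfsg.FusionSystem S, F.IsPPrimeResidual p R → R.IsSubsystemOf F₀ := by
  have h : Setup p F E χ := ⟨hS, hF, hTS, hE, hΔ, hker⟩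
  exact s5243_of_hyps p hS F hF hTS E hE hΔ χ hχ (famHyp p hS F hF hTS E hE χ)
    (extChi_of_normal p hS F hTS E hE hΔ χ hker) (Dchi h) (admH_Dchi h)
    (fun _ _ hφ => hφ.2) (autGroup_Dchi_top h).le

end Cfsg.Agent.Helper22.PIY
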