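import Mathlib
import Cfsg.Agent.Lib.PIY.PIYDefs
import Cfsg.Agent.Lib.Helper25.FusionRecept
import Cfsg.Agent.Lib.Helper25.FusionSat3

/-!
# PIY-MOVEA (S5243, specific half): failure of `C_T(Q') ≤ Q'` moves to a fully normalized conjugate.
RECIPE.  Contrapositive: assume `C_T(Qs) ≤ Qs`.  `Helper25.of_fullyNormalized p hS F hF hfn` gives `Qs` fully automized
and receptive; `Helper25.exists_normalizer_map p hS F Qs Q' _ _ hc` gives `φ ∈ F.Hom (normalizerIn S Q')` with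
`φ(Q') = Qs` (third clause) and values in `S`.  For `c ∈ C_T(Q')`: `c ∈ N_S(Q')`
(`centralizerIn_le_normalizerIn`, `T ≤ S`); `φ c ∈ T` (`hT.2` applied to `φ` restricted to
`C_T(Q') ≤ T`); `φ c` commutes with `φ y`, `y ∈ Q'`, hence with all of `Qs`; so `φ c ∈ C_T(Qs) ≤ Qs = φ(Q')`,
and injectivity of `φ` gives `c ∈ Q'`.
Aux names: prefix `piymovea_`.  Keep statements, names, namespace exactly; you may add imports.
-/

set_option autoImplicit false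

namespace Cfsg.Agent.Helper22.PIY

open Cfsg Cfsg.FusionSystem Cfsg.Agent.Helper25 Cfsg.Agent.Helper26 Cfsg.Agent.Helper3.PIX
  Cfsg.Agent.Helper25.OPE

variable {Ω : Type*} [Group Ω] {S : Subgroup Ω} {p : ℕ} {F : FusionSystem S} {T : Subgroup Ω}
  {E : FusionSystem T} {Δ : Type*} [Group Δ] {χ : ↥(F.autGroup T) →* Δ}

theorem not_le_of_fullyNormalized [Finite S] [Fact p.Prime] (hS : IsPGroup p S)
    (F : FusionSystem S) (hF : F.IsSaturated p) (hT : F.StronglyClosed T) {Q' Qs : Subgroup Ω}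
    (hc : F.IsConj Q' Qs) (hfn : F.IsFullyNormalized Qs) (hnot : ¬ centralizerIn T Q' ≤ Q') :
    ¬ centralizerIn T Qs ≤ Qs := by
  intro hle
  apply hnot
  obtain ⟨-, -, hrec⟩ := of_fullyNormalized p hS F hF hfn
  obtain ⟨φ, hφ, hr⟩ := hc
  obtain ⟨ψ, hψ, hψv⟩ := hrec.2 Q' φ hφ hr
  have hQ'N : Q' ≤ extender S Q' φ := le_extender F hφ
  have hCN : centralizerIn S Q' ≤ extender S Q' φ := centralizerIn_le_extender φ
  intro c hcm
  obtain ⟨hcT, hcC⟩ := Subgroup.mem_inf.mp hcm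
  have hcS : c ∈ centralizerIn S Q' := Subgroup.mem_inf.mpr ⟨hT.1 hcT, hcC⟩
  have hcN : c ∈ extender S Q' φ := hCN hcS
  have hψcT : ψ ⟨c, hcN⟩ ∈ T :=
    hT.2 _ inf_le_right _ (restrict_mem F inf_le_left hψ) ⟨c, Subgroup.mem_inf.mpr ⟨hcN, hcT⟩⟩
  have hψx : ∀ x : Q', ψ ⟨(x : Ω), hQ'N x.2⟩ = φ x := fun x => hψv x x.2 (hQ'N x.2)
  have hψcC : ψ ⟨c, hcN⟩ ∈ Subgroup.centralizer (Qs : Set Ω) := by
    rw [Subgroup.mem_centralizer_iff]
    intro y hy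
    rw [← hr] at hy
    obtain ⟨x, rfl⟩ := hy
    rw [← hψx x, ← map_mul, ← map_mul]
    congr 1
    apply Subtype.ext
    exact Subgroup.mem_centralizer_iff.mp hcC x x.2
  have h1 : ψ ⟨c, hcN⟩ ∈ Qs := hle (Subgroup.mem_inf.mpr ⟨hψcT, hψcC⟩)
  rw [← hr] at h1
  obtain ⟨x, hx⟩ := h1
  have h2 : (⟨(x : Ω), hQ'N x.2⟩ : extender S Q' φ) = ⟨c, hcN⟩ :=
    F.injective_of_mem hψ ((hψx x).trans hx)
  have h3 : (x : Ω) = c := congrArg Subtype.val h2
  rw [← h3]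
  exact x.2

end Cfsg.Agent.Helper22.PIY
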