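import Mathlib
import Cfsg.Agent.Lib.PIY.PIYDefs
import Cfsg.Agent.Lib.Helper25.FusionRecept
import Cfsg.Agent.Lib.Helper25.FusionSat3
import Cfsg.Agent.Lib.Helper25.FusionInvariant

/-!
# PIY-MOVEB (S5243, specific half): moving `P` along `N_S(P ⊓ T) → N_S(Qs)`.
RECIPE.  `Q := P ⊓ T`.  `Helper25.of_fullyNormalized` + `Helper25.exists_normalizer_map p hS F Qs Q _ _ hc` give
`φ ∈ F.Hom (normalizerIn S Q)` with `(Q.subgroupOf (normalizerIn S Q)).map φ = Qs`.  `P ≤ normalizerIn S Q`: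
`P ≤ S`, and `P` normalizes `P ⊓ T` because `S` normalizes `T` (`conj_mem_of_stronglyClosed F hT`,
`Helper25.mem_normalizer_of_stronglyClosed`).  `ψ := φ` restricted to `P` (`restrict_mem`), `P' := ψ.range`,
`F.IsConj P P'`.  `P' ⊓ T = Qs`: `⊇`: elements of `Qs` are `φ y`, `y ∈ Q ≤ P`, and lie in `T` (`hT.2` on
`φ` restricted to `Q ≤ T`); `⊆`: if `φ x ∈ T`, `x ∈ P`, then `x ∈ T` (apply `hT.2` to the inverse of `ψ`
restricted to `P' ⊓ T`, as in `Helper25.frattiniPr_inv` l.150), so `x ∈ Q` and `φ x ∈ Qs`.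
Aux names: prefix `piymoveb_`.  Keep statements, names, namespace exactly; you may add imports.
-/

set_option autoImplicit false

namespace Cfsg.Agent.Helper22.PIY

open Cfsg Cfsg.FusionSystem Cfsg.Agent.Helper25 Cfsg.Agent.Helper26 Cfsg.Agent.Helper3.PIX
  Cfsg.Agent.Helper25.OPE

variable {Ω : Type*} [Group Ω] {S : Subgroup Ω} {p : ℕ} {F : FusionSystem S} {T : Subgroup Ω}
  {E : FusionSystem T} {Δ : Type*} [Group Δ] {χ : ↥(F.autGroup T) →* Δ}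

theorem exists_conj_inf_eq [Finite S] [Fact p.Prime] (hS : IsPGroup p S)
    (F : FusionSystem S) (hF : F.IsSaturated p) (hT : F.StronglyClosed T) {P : Subgroup Ω}
    (hPS : P ≤ S) {Qs : Subgroup Ω} (hc : F.IsConj (P ⊓ T) Qs) (hfn : F.IsFullyNormalized Qs) :
    ∃ P' : Subgroup Ω, F.IsConj P P' ∧ P' ⊓ T = Qs := by
  obtain ⟨-, hfa, hrec⟩ := of_fullyNormalized p hS F hF hfn
  obtain ⟨φ, hφ, -, -, hmap⟩ := exists_normalizer_map p hS F Qs (P ⊓ T) hfa hrec hc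
  have hQS : P ⊓ T ≤ S := inf_le_left.trans hPS
  have hPN : P ≤ normalizerIn S (P ⊓ T) := by
    intro g hg
    have hgS : g ∈ S := hPS hg
    have hgT : g ∈ Subgroup.normalizer (T : Set Ω) := mem_normalizer_of_stronglyClosed hT hgS
    have hgP : g ∈ Subgroup.normalizer (P : Set Ω) := Subgroup.le_normalizer hg
    refine Subgroup.mem_inf.2 ⟨hgS, ?_⟩
    rw [Subgroup.mem_normalizer_iff]
    intro h
    rw [Subgroup.mem_inf, Subgroup.mem_inf, ← Subgroup.mem_normalizer_iff.1 hgP h,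
      ← Subgroup.mem_normalizer_iff.1 hgT h]
  have hψ : φ.comp (Subgroup.inclusion hPN) ∈ F.Hom P := restrict_mem F hPN hφ
  set ψ : P →* Ω := φ.comp (Subgroup.inclusion hPN) with hψdef
  refine ⟨ψ.range, ⟨ψ, hψ, rfl⟩, ?_⟩
  have hQN : P ⊓ T ≤ normalizerIn S (P ⊓ T) := le_normalizerIn hQS
  rw [← hmap]
  apply le_antisymm
  · rintro y ⟨⟨x, rfl⟩, hyT⟩
    obtain ⟨ι, hι, hιinv, -⟩ := exists_inv F hψ rfl
    have hy1 : ψ x ∈ ψ.range := ⟨x, rfl⟩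
    have hι' : ι.comp (Subgroup.inclusion (inf_le_left : ψ.range ⊓ T ≤ ψ.range)) ∈
        F.Hom (ψ.range ⊓ T) := restrict_mem F inf_le_left hι
    have h2 := hT.2 (ψ.range ⊓ T) inf_le_right _ hι' ⟨ψ x, Subgroup.mem_inf.2 ⟨hy1, hyT⟩⟩
    have h3 : ι ⟨ψ x, hy1⟩ = (x : Ω) := hιinv x hy1
    have h4 : (ι.comp (Subgroup.inclusion (inf_le_left : ψ.range ⊓ T ≤ ψ.range)))
        ⟨ψ x, Subgroup.mem_inf.2 ⟨hy1, hyT⟩⟩ = (x : Ω) := h3
    rw [h4] at h2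
    have hxQ : (x : Ω) ∈ P ⊓ T := Subgroup.mem_inf.2 ⟨x.2, h2⟩
    refine ⟨⟨(x : Ω), hQN hxQ⟩, Subgroup.mem_subgroupOf.2 hxQ, ?_⟩
    show φ ⟨(x : Ω), hQN hxQ⟩ = φ (Subgroup.inclusion hPN x)
    congr 1
  · rintro _ ⟨n, hn, rfl⟩
    replace hn : (n : Ω) ∈ P ⊓ T := hn
    have hnP : (n : Ω) ∈ P := (Subgroup.mem_inf.1 hn).1
    refine Subgroup.mem_inf.2 ⟨⟨⟨(n : Ω), hnP⟩, ?_⟩, ?_⟩
    · show φ (Subgroup.inclusion hPN ⟨(n : Ω), hnP⟩) = φ n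
      congr 1
    · have hφ' : φ.comp (Subgroup.inclusion hQN) ∈ F.Hom (P ⊓ T) := restrict_mem F hQN hφ
      have h2 := hT.2 (P ⊓ T) inf_le_right _ hφ' ⟨(n : Ω), hn⟩
      have h3 : (φ.comp (Subgroup.inclusion hQN)) ⟨(n : Ω), hn⟩ = φ n := by
        show φ (Subgroup.inclusion hQN ⟨(n : Ω), hn⟩) = φ n
        congr 1
      rwa [h3] at h2

end Cfsg.Agent.Helper22.PIY
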