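import Mathlib
import Cfsg.Agent.Lib.PIY.PIYMoveA
import Cfsg.Agent.Lib.PIY.PIYMoveB
import Cfsg.Agent.Lib.Helper25.FusionSat4

/-!
# S5243, specific half: a conjugate `P'` of `P` with `C_T(P' ⊓ T) ⊄ P'` when `P ⊓ T` is not `TCentric`
(assembly of MOVEA/MOVEB, helper22).
-/

set_option autoImplicit false

namespace Cfsg.Agent.Helper22.PIY

open Cfsg Cfsg.FusionSystem Cfsg.Agent.Helper25 Cfsg.Agent.Helper26 Cfsg.Agent.Helper3.PIX
  Cfsg.Agent.Helper25.OPE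

variable {Ω : Type*} [Group Ω] {S : Subgroup Ω} {p : ℕ} {F : FusionSystem S} {T : Subgroup Ω}
  {E : FusionSystem T} {Δ : Type*} [Group Δ] {χ : ↥(F.autGroup T) →* Δ}

theorem exists_conj_not_le [Finite S] [Fact p.Prime] (hS : IsPGroup p S)
    (F : FusionSystem S) (hF : F.IsSaturated p) (hT : F.StronglyClosed T) {P : Subgroup Ω}
    (hPS : P ≤ S) (hnot : ¬ TCentric F T (P ⊓ T)) :
    ∃ P' : Subgroup Ω, F.IsConj P P' ∧ ¬ centralizerIn T (P' ⊓ T) ≤ P' := by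
  have h1 : ∃ Q' : Subgroup Ω, F.IsConj (P ⊓ T) Q' ∧ ¬ centralizerIn T Q' ≤ Q' := by
    by_contra hcon
    apply hnot
    refine ⟨inf_le_right, fun Q' hQ' => ?_⟩
    by_contra h2
    exact hcon ⟨Q', hQ', h2⟩
  obtain ⟨Q', hQ', hnQ'⟩ := h1
  have hQS : P ⊓ T ≤ S := inf_le_left.trans hPS
  obtain ⟨Qs, hQs, hfn⟩ := exists_isConj_fullyNormalized F hQS
  have hc' : F.IsConj Q' Qs := isConj_trans F (isConj_symm F hQ') hQs
  have h3 := not_le_of_fullyNormalized hS F hF hT hc' hfn hnQ'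
  obtain ⟨P', hPP', hinf⟩ := exists_conj_inf_eq hS F hF hT hPS hQs hfn
  refine ⟨P', hPP', fun hle => h3 ?_⟩
  intro c hc
  have hc' : c ∈ centralizerIn T (P' ⊓ T) := by rw [hinf]; exact hc
  rw [← hinf]
  exact ⟨hle hc', (centralizerIn_le hc)⟩

end Cfsg.Agent.Helper22.PIY
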