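import Mathlib
import Cfsg.Agent.Lib.PIY.PIYDefs
import Cfsg.Agent.Lib.PIX.PIXNGrow
import Cfsg.Agent.Lib.Helper25.FusionNormal3

/-!
# PIY-NORMX (S5243, specific half): an element of `C_T(Q ⊓ T)` normalizing `Q` outside `Q`.
RECIPE.  `X := centralizerIn T (Q ⊓ T)`.  `T` is normalized by `S` (`Helper25.mem_normalizer_of_stronglyClosed hT`,
`conj_mem_of_stronglyClosed`), and `Q` normalizes `Q ⊓ T`, so `Q` normalizes `X`; hence `Y := X ⊔ Q` is `X * Q`
(`Subgroup.mul_normal`-type lemmas inside `Y`, or `Subgroup.sup_eq_closure_mul` + normalization).  `Y ≤ S` is a finite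
`p`-group and `Q < Y` (as `¬ X ≤ Q`), so `Q < N_Y(Q)` (normalizers grow in `p`-groups:
`IsPGroup`/nilpotent `normalizerCondition`; cf. `exists_mem_normalizerIn_not_mem` in
`Lib/Helper26/FusionCentric.lean`/`Lib/Helper25` used by `OPE.star`).  Take `y = x * q ∈ N_Y(Q) \ Q`, `x ∈ X`, `q ∈ Q`:
then `g := x` normalizes `Q` and `g ∉ Q`.
Aux names: prefix `piynormx_`.  Keep statements, names, namespace exactly; you may add imports.
-/

set_option autoImplicit false

namespace Cfsg.Agent.Helper22.PIY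

open Cfsg Cfsg.FusionSystem Cfsg.Agent.Helper25 Cfsg.Agent.Helper26 Cfsg.Agent.Helper3.PIX
  Cfsg.Agent.Helper25.OPE

variable {Ω : Type*} [Group Ω] {S : Subgroup Ω} {p : ℕ} {F : FusionSystem S} {T : Subgroup Ω}
  {E : FusionSystem T} {Δ : Type*} [Group Δ] {χ : ↥(F.autGroup T) →* Δ}

theorem exists_normalizer_not_mem [Finite S] [Fact p.Prime] (hS : IsPGroup p S)
    (hT : F.StronglyClosed T) {Q : Subgroup Ω} (hQS : Q ≤ S)
    (hnot : ¬ centralizerIn T (Q ⊓ T) ≤ Q) :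
    ∃ g : Ω, g ∈ centralizerIn T (Q ⊓ T) ∧ g ∈ Subgroup.normalizer (Q : Set Ω) ∧ g ∉ Q := by
  by_contra hno
  push Not at hno
  apply hnot
  have hXS : centralizerIn T (Q ⊓ T) ≤ S := fun c hc => hT.1 (mem_centralizerIn.mp hc).1
  have hle : Q ⊔ centralizerIn T (Q ⊓ T) ≤ S := sup_le hQS hXS
  haveI : Finite ↥(Q ⊔ centralizerIn T (Q ⊓ T)) :=
    Finite.of_injective (Subgroup.inclusion hle) (Subgroup.inclusion_injective hle)
  have hp : IsPGroup p ↥(Q ⊔ centralizerIn T (Q ⊓ T)) :=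
    hS.of_injective (Subgroup.inclusion hle) (Subgroup.inclusion_injective hle)
  refine le_of_normalizer_growth p Q (centralizerIn T (Q ⊓ T)) hp ?_ ?_
  · intro x hx c hc
    rw [mem_centralizerIn] at hc ⊢
    refine ⟨conj_mem_of_stronglyClosed F hT (hQS hx) hc.1, ?_⟩
    intro u hu
    have hu' : x⁻¹ * u * x ∈ Q ⊓ T := by
      rw [Subgroup.mem_inf] at hu ⊢
      exact ⟨Q.mul_mem (Q.mul_mem (Q.inv_mem hx) hu.1) hx,
        conj_mem_of_stronglyClosed' F hT (hQS hx) hu.2⟩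
    have h1 := hc.2 _ hu'
    calc u * (x * c * x⁻¹) = x * (x⁻¹ * u * x * c) * x⁻¹ := by group
      _ = x * (c * (x⁻¹ * u * x)) * x⁻¹ := by rw [h1]
      _ = x * c * x⁻¹ * u := by group
  · intro c hc hcN
    exact hno c hc hcN

end Cfsg.Agent.Helper22.PIY
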