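import Mathlib
import Cfsg.Agent.Lib.PIY.PIYDefs
import Cfsg.Agent.Lib.Helper21.MetaAut2
import Cfsg.Agent.Lib.Helper26.FusionCentric
import Cfsg.Agent.Lib.Helper25.FusionNormal3

/-!
# PIY-STAB (S5243, specific half): the stability group of `1 ≤ Q ⊓ T ≤ Q` lies in `O_p(Aut_D(Q))`.
`γ ∈ Aut_D(Q)` fixing `Q ⊓ T` pointwise and moving every `x ∈ Q` by an element of `T` lies in `O_p(Aut_D(Q))`.
`K := Helper21.stabSub (D.autGroup Q) D₀ ⊥` with `D₀ := T.subgroupOf Q` is normal in `D.autGroup Q`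
(`stabSub_normal`), every `γ ∈ K` has `γ ^ Nat.card Q = 1` (`γ x = x * u` with `u` fixed), and `Nat.card Q` is a
power of `p`; so `K.subgroupOf (D.autGroup Q)` is a normal `p`-subgroup, hence `≤ pCore p _`.
Aux names: prefix `piystab_`.
-/

set_option autoImplicit false

namespace Cfsg.Agent.Helper22.PIY

open Cfsg Cfsg.FusionSystem Cfsg.Agent.Helper25 Cfsg.Agent.Helper26 Cfsg.Agent.Helper3.PIX
  Cfsg.Agent.Helper25.OPE

variable {Ω : Type*} [Group Ω] {S : Subgroup Ω} {p : ℕ} {F : FusionSystem S} {T : Subgroup Ω}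
  {E : FusionSystem T} {Δ : Type*} [Group Δ] {χ : ↥(F.autGroup T) →* Δ}

theorem piystab_pow_apply {U : Type*} [Group U] (γ : MulAut U) {x c : U} (hx : γ x = x * c)
    (hc : γ c = c) (k : ℕ) : (γ ^ k) x = x * c ^ k := by
  induction k with
  | zero => simp
  | succ k ih =>
    rw [pow_succ', MulAut.mul_apply, ih, map_mul, map_pow, hx, hc, mul_assoc, ← pow_succ']

theorem stab_mem_pCore [Finite S] [Fact p.Prime] (hS : IsPGroup p S) (F D : FusionSystem S)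
    (hDF : D.IsSubsystemOf F) (hT : F.StronglyClosed T) {Q : Subgroup Ω} (hQS : Q ≤ S)
    {γ : MulAut ↥Q} (hγ : γ ∈ D.autGroup Q) (hfix : ∀ x : ↥Q, (x : Ω) ∈ T → γ x = x)
    (hmov : ∀ x : ↥Q, (x : Ω)⁻¹ * ((γ x : ↥Q) : Ω) ∈ T) :
    γ ∈ (Cfsg.pCore p ↥(D.autGroup Q)).map (D.autGroup Q).subtype := by
  classical
  haveI : Finite Q := Finite.of_injective (Subgroup.inclusion hQS) (Subgroup.inclusion_injective hQS)
  have hDle : D.autGroup Q ≤ F.autGroup Q := by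
    unfold FusionSystem.autGroup
    apply Subgroup.closure_mono
    intro α hα
    exact hDF Q hα
  have hD₀ : ∀ α ∈ D.autGroup Q, ∀ d ∈ T.subgroupOf Q, α d ∈ T.subgroupOf Q := by
    intro α hα d hd
    rw [Subgroup.mem_subgroupOf] at hd ⊢
    exact aut_mem_of_stronglyClosed F hT hQS (hDle hα) hd
  have hbot : ∀ α ∈ D.autGroup Q, ∀ d ∈ (⊥ : Subgroup ↥Q), α d ∈ (⊥ : Subgroup ↥Q) := by
    intro α _ d hd
    rw [Subgroup.mem_bot] at hd ⊢
    rw [hd, map_one]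
  have hKn := Cfsg.Agent.Helper21.MetaAut.stabSub_normal (D.autGroup Q) (T.subgroupOf Q) ⊥ hD₀ hbot
  -- γ ∈ K
  have hγK : γ ∈ Cfsg.Agent.Helper21.MetaAut.stabSub (D.autGroup Q) (T.subgroupOf Q) ⊥ hD₀ := by
    rw [Cfsg.Agent.Helper21.MetaAut.mem_stabSub]
    refine ⟨hγ, fun y => ?_, fun d hd => ?_⟩
    · rw [Subgroup.mem_subgroupOf]
      exact hmov y
    · rw [Subgroup.mem_bot, hfix d (Subgroup.mem_subgroupOf.mp hd), inv_mul_cancel]
  -- K is a p-group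
  obtain ⟨n, hn⟩ := (hS.to_le hQS).exists_card_eq
  have hKp : IsPGroup p ↥((Cfsg.Agent.Helper21.MetaAut.stabSub (D.autGroup Q) (T.subgroupOf Q) ⊥ hD₀).subgroupOf
      (D.autGroup Q)) := by
    intro g
    refine ⟨n, ?_⟩
    have hg : ((g : ↥(D.autGroup Q)) : MulAut ↥Q) ∈
        Cfsg.Agent.Helper21.MetaAut.stabSub (D.autGroup Q) (T.subgroupOf Q) ⊥ hD₀ :=
      Subgroup.mem_subgroupOf.mp g.2
    obtain ⟨-, hg1, hg2⟩ := (Cfsg.Agent.Helper21.MetaAut.mem_stabSub _ _ _ _ _).mp hg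
    have hpow : ((g : ↥(D.autGroup Q)) : MulAut ↥Q) ^ p ^ n = 1 := by
      apply MulEquiv.ext
      intro y
      have hx : ((g : ↥(D.autGroup Q)) : MulAut ↥Q) y
          = y * (y⁻¹ * ((g : ↥(D.autGroup Q)) : MulAut ↥Q) y) := by
        rw [mul_inv_cancel_left]
      have hc : ((g : ↥(D.autGroup Q)) : MulAut ↥Q) (y⁻¹ * ((g : ↥(D.autGroup Q)) : MulAut ↥Q) y)
          = y⁻¹ * ((g : ↥(D.autGroup Q)) : MulAut ↥Q) y := by
        have h3 := hg2 _ (hg1 y)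
        rw [Subgroup.mem_bot] at h3
        exact (inv_mul_eq_one.mp h3).symm
      rw [piystab_pow_apply _ hx hc, ← hn, pow_card_eq_one', mul_one]
      rfl
    apply Subtype.ext
    apply Subtype.ext
    rw [SubgroupClass.coe_pow, SubgroupClass.coe_pow, hpow]
    rfl
  have hle : (Cfsg.Agent.Helper21.MetaAut.stabSub (D.autGroup Q) (T.subgroupOf Q) ⊥ hD₀).subgroupOf
      (D.autGroup Q) ≤ Cfsg.pCore p ↥(D.autGroup Q) := by
    unfold Cfsg.pCore
    exact le_sSup ⟨hKn, hKp⟩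
  exact ⟨⟨γ, hγ⟩, hle (Subgroup.mem_subgroupOf.mpr hγK), rfl⟩

end Cfsg.Agent.Helper22.PIY
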