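import Mathlib
import Cfsg.Agent.Lib.PIY.PIYStab
import Cfsg.Agent.Lib.PIY.PIYNormX

/-!
# PIY-NOTINN (S5243, specific half): if `C_T(Q ⊓ T) ⊄ Q` and `C_S(Q) ≤ Q` then
`Aut_S(Q) ⊓ O_p(Aut_D(Q)) ⊄ Inn(Q)` (the S5110 `hstar` shape), for every `D ≤ F`.
RECIPE.  `exists_normalizer_not_mem` gives `g ∈ C_T(Q ⊓ T)` normalizing `Q`, `g ∉ Q`.  Let
`c := Subgroup.normalizerMonoidHom Q ⟨g, _⟩ : MulAut Q` (conjugation by `g`).  `c ∈ autInducedBy S Q`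
(`mem_autInducedBy_iff`, `g ∈ T ≤ S`); `c ∈ D.autGroup Q` (`autInducedBy_le_autGroup D hQS`).
`stab_mem_pCore` applies: `g` commutes with `x ∈ Q ⊓ T`, and `x⁻¹ * (g x g⁻¹) = (x⁻¹ g x) g⁻¹ ∈ T` as `T` is
normalized by `S` (`conj_mem_of_stronglyClosed`).  If `c ∈ Inn Q` then `c = conj x₀`, `x₀ ∈ Q`
(`Cfsg.Inn`, see `Lib/Helper25/Fusion.lean`/`mem_Inn`-type lemmas), so `x₀⁻¹ g ∈ C_S(Q) ≤ Q` and `g ∈ Q`.
Aux names: prefix `piynotinn_`.  Keep statements, names, namespace exactly; you may add imports.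
-/

set_option autoImplicit false

namespace Cfsg.Agent.Helper22.PIY

open Cfsg Cfsg.FusionSystem Cfsg.Agent.Helper25 Cfsg.Agent.Helper26 Cfsg.Agent.Helper3.PIX
  Cfsg.Agent.Helper25.OPE

variable {Ω : Type*} [Group Ω] {S : Subgroup Ω} {p : ℕ} {F : FusionSystem S} {T : Subgroup Ω}
  {E : FusionSystem T} {Δ : Type*} [Group Δ] {χ : ↥(F.autGroup T) →* Δ}

theorem not_le_inn [Finite S] [Fact p.Prime] (hS : IsPGroup p S) (F D : FusionSystem S)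
    (hDF : D.IsSubsystemOf F) (hT : F.StronglyClosed T) {Q : Subgroup Ω} (hQS : Q ≤ S)
    (hcen : centralizerIn S Q ≤ Q) (hnot : ¬ centralizerIn T (Q ⊓ T) ≤ Q) :
    ¬ (Cfsg.autInducedBy S Q ⊓ (Cfsg.pCore p ↥(D.autGroup Q)).map (D.autGroup Q).subtype ≤
      Cfsg.Inn Q) := by
  intro hle
  obtain ⟨g, hgX, hgN, hgQ⟩ := exists_normalizer_not_mem (F := F) hS hT hQS hnot
  have hTS : T ≤ S := hT.1
  have hgT : g ∈ T := hgX.1
  have hgS : g ∈ S := hTS hgT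
  have hgC : ∀ x ∈ Q ⊓ T, x * g = g * x := by
    have h : g ∈ Subgroup.centralizer ((Q ⊓ T : Subgroup Ω) : Set Ω) := hgX.2
    rw [Subgroup.mem_centralizer_iff] at h
    exact h
  let c : MulAut Q := Subgroup.normalizerMonoidHom Q ⟨g, hgN⟩
  have hc_apply : ∀ x : Q, ((c x : Q) : Ω) = g * x * g⁻¹ := fun x => rfl
  have hcS : c ∈ autInducedBy S Q := (mem_autInducedBy_iff c).mpr ⟨g, hgS, hc_apply⟩
  have hcD : c ∈ D.autGroup Q := autInducedBy_le_autGroup D hQS hcS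
  have hcP : c ∈ (Cfsg.pCore p ↥(D.autGroup Q)).map (D.autGroup Q).subtype := by
    apply stab_mem_pCore hS F D hDF hT hQS hcD
    · intro x hx
      apply Subtype.ext
      rw [hc_apply]
      have h1 := hgC x ⟨x.2, hx⟩
      rw [← h1, mul_inv_cancel_right]
    · intro x
      rw [hc_apply]
      have h1 : (x : Ω)⁻¹ * g * x ∈ T := conj_mem_of_stronglyClosed' F hT (hQS x.2) hgT
      have h2 : (x : Ω)⁻¹ * (g * x * g⁻¹) = ((x : Ω)⁻¹ * g * x) * g⁻¹ := by group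
      rw [h2]
      exact T.mul_mem h1 (T.inv_mem hgT)
  obtain ⟨x₀, hx₀⟩ := hle ⟨hcS, hcP⟩
  apply hgQ
  have h1 : (x₀ : Ω)⁻¹ * g ∈ centralizerIn S Q := by
    rw [mem_centralizerIn]
    refine ⟨S.mul_mem (S.inv_mem (hQS x₀.2)) hgS, fun e he => ?_⟩
    have h2 : (x₀ : Ω) * e * (x₀ : Ω)⁻¹ = g * e * g⁻¹ := by
      have h3 := congrArg (fun β : MulAut Q => ((β ⟨e, he⟩ : Q) : Ω)) hx₀
      exact h3
    calc e * ((x₀ : Ω)⁻¹ * g) = (x₀ : Ω)⁻¹ * (x₀ * e * (x₀ : Ω)⁻¹) * g := by group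
      _ = (x₀ : Ω)⁻¹ * (g * e * g⁻¹) * g := by rw [h2]
      _ = (x₀ : Ω)⁻¹ * g * e := by group
  have h3 := hcen h1
  have h4 : g = x₀ * ((x₀ : Ω)⁻¹ * g) := by group
  rw [h4]
  exact Q.mul_mem x₀.2 h3

end Cfsg.Agent.Helper22.PIY
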