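import Mathlib
import Cfsg.Agent.Lib.PIY.PIYDefs

/-!
# PIY-RADCONJ (S5243, specific half): `F`-radical is invariant under `F`-conjugacy.
`F.IsRadical p P := P ≤ S ∧ (pCore p (F.autGroup P)).map (F.autGroup P).subtype = Inn P`.
RECIPE.  `hc = ⟨ψ, hψ, rfl⟩`; `e := Helper25.homEquiv F hψ : P ≃* ψ.range`; `MulAut.congr e : MulAut P ≃* MulAut ψ.range`
maps `F.autGroup P` onto `F.autGroup ψ.range` (see `Helper25.exists_normalizer_map`, `Lib/Helper25/FusionRecept.lean`
l.27-60, and `OPE.op_mem` for this transport) and `Inn P` onto `Inn ψ.range` (`e (x y x⁻¹) = e x * e y * (e x)⁻¹`).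
So it induces `ε : ↥(F.autGroup P) ≃* ↥(F.autGroup ψ.range)`; `Cfsg.pCore` (see `Cfsg/Prelude`, `pCore`; search
`pCore` + `MulEquiv`/`map` lemmas in `Cfsg/Agent/Lib`, e.g. `pCore_map_equiv`-type statements) is carried to
`pCore` by a group isomorphism.  Conclude by transporting the equality.
Aux names: prefix `piyradconj_`.  Keep statements, names, namespace exactly; you may add imports.
-/

set_option autoImplicit false

namespace Cfsg.Agent.Helper22.PIY

open Cfsg Cfsg.FusionSystem Cfsg.Agent.Helper25 Cfsg.Agent.Helper26 Cfsg.Agent.Helper3.PIX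
  Cfsg.Agent.Helper25.OPE

variable {Ω : Type*} [Group Ω] {S : Subgroup Ω} {p : ℕ} {F : FusionSystem S} {T : Subgroup Ω}
  {E : FusionSystem T} {Δ : Type*} [Group Δ] {χ : ↥(F.autGroup T) →* Δ}

theorem piyradconj_pCore_map_le {p : ℕ} {A B : Type*} [Group A] [Group B] (ε : A ≃* B) :
    (pCore p A).map ε.toMonoidHom ≤ pCore p B := by
  rw [Subgroup.map_le_iff_le_comap]
  apply sSup_le
  rintro N ⟨hNn, hNp⟩
  rw [← Subgroup.map_le_iff_le_comap]
  exact le_sSup ⟨Subgroup.Normal.map hNn _ ε.surjective, hNp.map _⟩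

theorem piyradconj_mem {G G' : Type*} [Group G] [Group G'] (p : ℕ) (ε : G ≃* G')
    (A : Subgroup G) (A' : Subgroup G') (hA : A.map ε.toMonoidHom = A') (x : G)
    (hx : x ∈ (pCore p ↥A).map A.subtype) : ε x ∈ (pCore p ↥A').map A'.subtype := by
  subst hA
  obtain ⟨z, hz, rfl⟩ := hx
  refine ⟨ε.subgroupMap A z, ?_, rfl⟩
  exact piyradconj_pCore_map_le (ε.subgroupMap A) ⟨z, hz, rfl⟩

theorem piyradconj_congr_conj {A B : Type*} [Group A] [Group B] (e : A ≃* B) (x : A) :
    MulAut.congr e (MulAut.conj x) = MulAut.conj (e x) := by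
  ext y
  simp [MulAut.congr]

theorem isRadical_of_isConj [Finite S] (F : FusionSystem S) (p : ℕ) {P P' : Subgroup Ω}
    (hc : F.IsConj P P') (hr : F.IsRadical p P) : F.IsRadical p P' := by
  obtain ⟨ψ, hψ, rfl⟩ := hc
  have he : ψ.range.subtype.comp (homEquiv F hψ).toMonoidHom ∈ F.Hom P := by
    have h0 : ψ.range.subtype.comp (homEquiv F hψ).toMonoidHom = ψ := by
      ext x; rfl
    rw [h0]; exact hψ
  have hAB := autGroup_map_congr F (homEquiv F hψ) he
  have hBA := autGroup_map_congr F (homEquiv F hψ).symm (symm_mem F (homEquiv F hψ) he)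
  refine ⟨range_le F hψ, ?_⟩
  ext b
  constructor
  · intro hb
    have h1 := piyradconj_mem p (MulAut.congr (homEquiv F hψ).symm) _ _ hBA b hb
    rw [hr.2] at h1
    obtain ⟨x, hx⟩ := h1
    refine ⟨homEquiv F hψ x, ?_⟩
    rw [← piyradconj_congr_conj, hx]
    ext y
    simp [MulAut.congr]
  · rintro ⟨y, rfl⟩
    have h1 : MulAut.conj ((homEquiv F hψ).symm y) ∈
        (pCore p ↥(F.autGroup P)).map (F.autGroup P).subtype := by
      rw [hr.2]; exact ⟨_, rfl⟩
    have h2 := piyradconj_mem p (MulAut.congr (homEquiv F hψ)) _ _ hAB _ h1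
    rw [piyradconj_congr_conj, MulEquiv.apply_symm_apply] at h2
    exact h2

end Cfsg.Agent.Helper22.PIY
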