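import Mathlib
import Cfsg.Agent.Lib.PIY.PIYMove
import Cfsg.Agent.Lib.PIY.PIYNotInn
import Cfsg.Agent.Lib.PIY.PIYRadConj
import Cfsg.Agent.S5080

/-!
# PIY-ESS (S5243, specific half): every `F`-essential subgroup lies in `famH`.
RECIPE.  `hP.1 : F.IsCentric P`.  Suppose `¬ TCentric F T (P ⊓ T)`.  `exists_conj_not_le` gives an `F`-conjugate `P'`
with `¬ C_T(P' ⊓ T) ≤ P'`.  `P'` is `F`-centric (`Helper25.isCentric_of_isConj`), so `C_S(P') ≤ P'`
(`.2 P' (isConj_refl F _)`).  `not_le_inn hS F F (fun _ _ h => h) hT` gives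
`¬ (Aut_S(P') ⊓ O_p(Aut_F(P')) ≤ Inn P')`.  But `P` is radical (`Cfsg.Agent.S5080.result p hS F hF P hP`), hence so is
`P'` (`isRadical_of_isConj`): `(pCore ..).map .. = Inn P'`, so the intersection is `≤ Inn P'` (`inf_le_right`).
Aux names: prefix `piyess_`.  Keep statements, names, namespace exactly; you may add imports.
-/

set_option autoImplicit false

namespace Cfsg.Agent.Helper22.PIY

open Cfsg Cfsg.FusionSystem Cfsg.Agent.Helper25 Cfsg.Agent.Helper26 Cfsg.Agent.Helper3.PIX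
  Cfsg.Agent.Helper25.OPE

variable {Ω : Type*} [Group Ω] {S : Subgroup Ω} {p : ℕ} {F : FusionSystem S} {T : Subgroup Ω}
  {E : FusionSystem T} {Δ : Type*} [Group Δ] {χ : ↥(F.autGroup T) →* Δ}

theorem famH_of_isEssential [Finite S] [Fact p.Prime] (hS : IsPGroup p S)
    (F : FusionSystem S) (hF : F.IsSaturated p) (hT : F.StronglyClosed T) {P : Subgroup Ω}
    (hP : F.IsEssential p P) : P ∈ famH F T := by
  have hPc : F.IsCentric P := hP.1
  refine ⟨hPc, ?_⟩
  by_contra hnot
  obtain ⟨P', hPP', hnle⟩ := exists_conj_not_le hS F hF hT hPc.1 hnot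
  have hP'c : F.IsCentric P' := Cfsg.Agent.Helper25.isCentric_of_isConj F hPc hPP'
  have hcen : centralizerIn S P' ≤ P' := hP'c.2 P' (isConj_refl F hP'c.1)
  have h1 := not_le_inn hS F F (fun _ _ h => h) hT hP'c.1 hcen hnle
  have hrad : F.IsRadical p P := Cfsg.Agent.S5080.result p hS F hF P hP
  have hrad' : F.IsRadical p P' := isRadical_of_isConj F p hPP' hrad
  apply h1
  rw [hrad'.2]
  exact inf_le_right

end Cfsg.Agent.Helper22.PIY
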