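import Mathlib
import Cfsg.Agent.Lib.PIY.PIYDefs

/-!
# PIY-FAMA (S5243, specific half): `famH` is closed under `F`-conjugacy.
RECIPE.  `hT : F.StronglyClosed T` = `T ≤ S ∧ ∀ R ≤ T, ∀ φ ∈ F.Hom R, ∀ x, φ x ∈ T`.
* `inf_isConj`: restrict `φ` to `P ⊓ T` (`restrict_mem F inf_le_left hφ`); its range is `φ.range ⊓ T`:
  `⊆` by `hT.2 (P ⊓ T) inf_le_right`; `⊇`: for `φ x ∈ T` apply `hT.2` to the inverse map
  (`F.inv_mem hφ`, restricted to `φ.range ⊓ T`) to get `x ∈ T`.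
* `tcentric_conj`: `Q' ≤ T` by `hT.2 Q hQ.1`; conjugates of `Q'` are conjugates of `Q` (`isConj_trans`).
* `famH_conj`: `Helper25.isCentric_of_isConj F hP.1 hc`, `inf_isConj`, `tcentric_conj`.
Aux names: prefix `piyfam_`.  Keep statements, names, namespace exactly; you may add imports.
-/

set_option autoImplicit false

namespace Cfsg.Agent.Helper22.PIY

open Cfsg Cfsg.FusionSystem Cfsg.Agent.Helper25 Cfsg.Agent.Helper26 Cfsg.Agent.Helper3.PIX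
  Cfsg.Agent.Helper25.OPE

variable {Ω : Type*} [Group Ω] {S : Subgroup Ω} {p : ℕ} {F : FusionSystem S} {T : Subgroup Ω}
  {E : FusionSystem T} {Δ : Type*} [Group Δ] {χ : ↥(F.autGroup T) →* Δ}

theorem inf_isConj (hT : F.StronglyClosed T) {P : Subgroup Ω} {φ : P →* Ω} (hφ : φ ∈ F.Hom P) :
    F.IsConj (P ⊓ T) (φ.range ⊓ T) := by
  have hψ : φ.comp (Subgroup.inclusion (inf_le_left : P ⊓ T ≤ P)) ∈ F.Hom (P ⊓ T) :=
    restrict_mem F inf_le_left hφ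
  refine ⟨_, hψ, ?_⟩
  apply le_antisymm
  · rintro _ ⟨x, rfl⟩
    exact ⟨⟨Subgroup.inclusion inf_le_left x, rfl⟩, hT.2 (P ⊓ T) inf_le_right _ hψ x⟩
  · rintro y ⟨⟨x, rfl⟩, hyT⟩
    obtain ⟨ι, hι, hinv, -⟩ := exists_inv F hφ (rfl : φ.range = φ.range)
    have hι' : ι.comp (Subgroup.inclusion (inf_le_left : φ.range ⊓ T ≤ φ.range)) ∈
        F.Hom (φ.range ⊓ T) := restrict_mem F inf_le_left hι
    have h1 := hT.2 (φ.range ⊓ T) inf_le_right _ hι' ⟨φ x, ⟨⟨x, rfl⟩, hyT⟩⟩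
    have h2 : (ι.comp (Subgroup.inclusion (inf_le_left : φ.range ⊓ T ≤ φ.range)))
        ⟨φ x, ⟨⟨x, rfl⟩, hyT⟩⟩ = (x : Ω) := hinv x ⟨x, rfl⟩
    rw [h2] at h1
    exact ⟨⟨(x : Ω), ⟨x.2, h1⟩⟩, rfl⟩

theorem tcentric_conj (hT : F.StronglyClosed T) {Q Q' : Subgroup Ω} (hQ : TCentric F T Q)
    (hc : F.IsConj Q Q') : TCentric F T Q' := by
  refine ⟨?_, fun Q'' h => hQ.2 Q'' (isConj_trans F hc h)⟩
  obtain ⟨φ, hφ, rfl⟩ := hc
  rintro _ ⟨x, rfl⟩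
  exact hT.2 Q hQ.1 φ hφ x

theorem famH_conj (hT : F.StronglyClosed T) {P Q : Subgroup Ω} (hP : P ∈ famH F T)
    (hc : F.IsConj P Q) : Q ∈ famH F T := by
  refine ⟨Cfsg.Agent.Helper25.isCentric_of_isConj F hP.1 hc, ?_⟩
  obtain ⟨φ, hφ, rfl⟩ := hc
  exact tcentric_conj hT hP.2 (inf_isConj hT hφ)

end Cfsg.Agent.Helper22.PIY
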