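import Mathlib
import Cfsg.Agent.Lib.PIY.PIYDefs
import Cfsg.Agent.Lib.Helper26.FusionCentric

/-!
# PIY-FAMB (S5243, specific half): `famH` is closed under overgroups and contains `S`.
RECIPE.
* `famH_overgroup`: `R` is `F`-centric by `Helper26.isCentric_of_le F hPR hRS hP.1`.  For `TCentric F T (R ⊓ T)`:
  let `φ ∈ F.Hom (R ⊓ T)`, `φ.range = Q'`.  Restrict `φ` to `P ⊓ T ≤ R ⊓ T` (`restrict_mem`): its range `P''` is an
  `F`-conjugate of `P ⊓ T`, so `C_T(P'') ≤ P''`; and `P'' ≤ Q'`, so `C_T(Q') ≤ C_T(P'') ≤ P'' ≤ Q'`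
  (`mem_centralizerIn`, `Lib/Helper25/Fusion.lean`).
* `top_mem_famH`: a map of `F` on `S` is injective with values in `S`, so onto `S` (finite): the only conjugate of
  `S` is `S`, and `C_S(S) ≤ S`.  `S ⊓ T = T` (`inf_eq_right.mpr hT.1`); a conjugate `Q'` of `T` lies in `T`
  (`hT.2`) and has the same cardinality, so `Q' = T`; `C_T(T) ≤ T`.
Aux names: prefix `piyfamb_`.  Keep statements, names, namespace exactly; you may add imports.
-/

set_option autoImplicit false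

namespace Cfsg.Agent.Helper22.PIY

open Cfsg Cfsg.FusionSystem Cfsg.Agent.Helper25 Cfsg.Agent.Helper26 Cfsg.Agent.Helper3.PIX
  Cfsg.Agent.Helper25.OPE

variable {Ω : Type*} [Group Ω] {S : Subgroup Ω} {p : ℕ} {F : FusionSystem S} {T : Subgroup Ω}
  {E : FusionSystem T} {Δ : Type*} [Group Δ] {χ : ↥(F.autGroup T) →* Δ}

theorem famH_overgroup {P R : Subgroup Ω} (hP : P ∈ famH F T) (hPR : P ≤ R) (hRS : R ≤ S) :
    R ∈ famH F T := by
  obtain ⟨hPc, hPT, hPcen⟩ := hP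
  refine ⟨Cfsg.Agent.Helper26.isCentric_of_le F hPR hRS hPc, inf_le_right, ?_⟩
  rintro Q' ⟨θ, hθ, rfl⟩
  have hle' : P ⊓ T ≤ R ⊓ T := inf_le_inf_right T hPR
  have hconj := isConj_restrict F hle' hθ
  have hle : ((P ⊓ T).subgroupOf (R ⊓ T)).map θ ≤ θ.range := by
    rintro _ ⟨g, -, rfl⟩; exact ⟨g, rfl⟩
  intro c hc
  have hc' : c ∈ centralizerIn T (((P ⊓ T).subgroupOf (R ⊓ T)).map θ) := by
    rw [mem_centralizerIn] at hc ⊢
    exact ⟨hc.1, fun x hx => hc.2 x (hle hx)⟩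
  exact hle (hPcen _ hconj hc')

theorem top_mem_famH [Finite S] (hT : F.StronglyClosed T) : S ∈ famH F T := by
  have key : ∀ (U : Subgroup Ω), U ≤ S → (∀ φ ∈ F.Hom U, φ.range ≤ U) →
      ∀ Q' : Subgroup Ω, F.IsConj U Q' → Q' = U := by
    intro U hUS hU Q' hQ'
    obtain ⟨φ, hφ, rfl⟩ := hQ'
    haveI : Finite U := finite_of_le_finite hUS
    have hcard : Nat.card φ.range = Nat.card U :=
      (Nat.card_congr (homEquiv F hφ).toEquiv).symm
    exact Subgroup.eq_of_le_of_card_ge (hU φ hφ) (le_of_eq hcard.symm)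
  refine ⟨⟨le_rfl, fun Q hQ => ?_⟩, ?_⟩
  · rw [key S le_rfl (fun φ hφ => range_le F hφ) Q hQ]
    exact centralizerIn_le
  · have e : S ⊓ T = T := inf_eq_right.mpr hT.1
    rw [e]
    refine ⟨le_rfl, fun Q' hQ' => ?_⟩
    rw [key T hT.1 (fun φ hφ => by
      rintro _ ⟨x, rfl⟩
      exact hT.2 T le_rfl φ hφ x) Q' hQ']
    exact centralizerIn_le

end Cfsg.Agent.Helper22.PIY
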