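import Mathlib
import Cfsg.Agent.Lib.PIY.PIYMove
import Cfsg.Agent.Lib.PIY.PIYNotInn

/-!
# PIY-HSTAR (S5243, specific half): the field `star` of `FamHyp` for `famH`.
RECIPE.  `P ∉ famH F T` and `F.IsCentric P` give `¬ TCentric F T (P ⊓ T)`.  `exists_conj_not_le` gives
`ψ ∈ F.Hom P`, `P' = ψ.range`, `¬ C_T(P' ⊓ T) ≤ P'`.  `FratS F D` (unfold, `Lib/PIX/PIXDefs.lean`) gives
`a ∈ F.autGroup S`, `φ₀ ∈ D.Hom P` with `ψ x = a ⟨φ₀ x, _⟩`.  Take `Q := φ₀.range`; `D.IsConj P Q`.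
`Q` is `F`-centric (`Helper25.isCentric_of_isConj F hPc ⟨φ₀, hDF _ hφ₀, rfl⟩`), so `C_S(Q) ≤ Q`.
`¬ C_T(Q ⊓ T) ≤ Q`: otherwise for `c ∈ C_T(P' ⊓ T)` put `c' := a⁻¹ c`; `a` and `a⁻¹` preserve `T`
(`aut_mem_of_stronglyClosed F hT le_rfl`), `a` maps `Q ⊓ T` into `P' ⊓ T`, so `c'` centralizes `Q ⊓ T`
(apply `a` to the commutation), `c' ∈ Q`, `c = a c' ∈ P'`.  Conclude with `not_le_inn hS F D hDF hT`.
Aux names: prefix `piyhstar_`.  Keep statements, names, namespace exactly; you may add imports.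
-/

set_option autoImplicit false

namespace Cfsg.Agent.Helper22.PIY

open Cfsg Cfsg.FusionSystem Cfsg.Agent.Helper25 Cfsg.Agent.Helper26 Cfsg.Agent.Helper3.PIX
  Cfsg.Agent.Helper25.OPE

variable {Ω : Type*} [Group Ω] {S : Subgroup Ω} {p : ℕ} {F : FusionSystem S} {T : Subgroup Ω}
  {E : FusionSystem T} {Δ : Type*} [Group Δ] {χ : ↥(F.autGroup T) →* Δ}

theorem hstar_famH [Finite S] [Fact p.Prime] (hS : IsPGroup p S)
    (F : FusionSystem S) (hF : F.IsSaturated p) (hT : F.StronglyClosed T) :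
    ∀ D : FusionSystem S, D.IsSubsystemOf F → FratS F D →
    ∀ P : Subgroup Ω, F.IsCentric P → P ∉ famH F T → ∃ Q, D.IsConj P Q ∧
      ¬ (Cfsg.autInducedBy S Q ⊓ (Cfsg.pCore p ↥(D.autGroup Q)).map (D.autGroup Q).subtype ≤
        Cfsg.Inn Q) := by
  intro D hDF hFrat P hPc hPnot
  have hTS : T ≤ S := hT.1
  have hPS : P ≤ S := hPc.1
  have hnot : ¬ TCentric F T (P ⊓ T) := fun h => hPnot ⟨hPc, h⟩
  obtain ⟨P', ⟨ψ, hψ, hψr⟩, hnP'⟩ := exists_conj_not_le hS F hF hT hPS hnot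
  obtain ⟨α, hα, φ₀, hφ₀, hαφ⟩ := hFrat P ψ hψ
  have hφ₀F : φ₀ ∈ F.Hom P := hDF _ hφ₀
  have hφ₀S : ∀ x : P, φ₀ x ∈ S := (F.le_of_mem hφ₀F).2
  refine ⟨φ₀.range, ⟨φ₀, hφ₀, rfl⟩, ?_⟩
  have hQc : F.IsCentric φ₀.range := isCentric_of_isConj F hPc ⟨φ₀, hφ₀F, rfl⟩
  have hQS : φ₀.range ≤ S := hQc.1
  have hcen : centralizerIn S φ₀.range ≤ φ₀.range := hQc.2 _ (isConj_refl F hQS)
  have hαinv : α⁻¹ ∈ F.autGroup S := (F.autGroup S).inv_mem hα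
  have hnQ : ¬ centralizerIn T (φ₀.range ⊓ T) ≤ φ₀.range := by
    intro hle
    apply hnP'
    intro c hc
    rw [mem_centralizerIn] at hc
    obtain ⟨hcT, hcc⟩ := hc
    obtain ⟨c', hc'⟩ : ∃ c' : S, c' = α⁻¹ ⟨c, hTS hcT⟩ := ⟨_, rfl⟩
    have hc'T : (c' : Ω) ∈ T := by
      rw [hc']
      exact aut_mem_of_stronglyClosed F hT le_rfl hαinv (y := ⟨c, hTS hcT⟩) hcT
    have hαc' : α c' = ⟨c, hTS hcT⟩ := by
      rw [hc', MulAut.apply_inv_self]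
    have hc'Q : (c' : Ω) ∈ φ₀.range := by
      apply hle
      rw [mem_centralizerIn]
      refine ⟨hc'T, ?_⟩
      rintro y ⟨⟨x, rfl⟩, hyT⟩
      have hyS : φ₀ x ∈ S := hφ₀S x
      have h1 : ((α ⟨φ₀ x, hyS⟩ : S) : Ω) ∈ P' ⊓ T := by
        refine ⟨?_, aut_mem_of_stronglyClosed F hT le_rfl hα (y := ⟨φ₀ x, hyS⟩) hyT⟩
        rw [← hαφ x hyS, ← hψr]
        exact ⟨x, rfl⟩
      have h2 := hcc _ h1
      have h3 : α (⟨φ₀ x, hyS⟩ * c') = α (c' * ⟨φ₀ x, hyS⟩) := by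
        rw [map_mul, map_mul, hαc']
        exact Subtype.ext h2
      have h4 := α.injective h3
      exact congrArg Subtype.val h4
    obtain ⟨x, hx⟩ := hc'Q
    have hyS : φ₀ x ∈ S := hφ₀S x
    have h5 : (⟨φ₀ x, hyS⟩ : S) = c' := Subtype.ext hx
    have h6 : ψ x = c := by
      rw [hαφ x hyS, h5, hαc']
    rw [← hψr]
    exact ⟨x, h6⟩
  exact not_le_inn hS F D hDF hT hQS hcen hnQ

end Cfsg.Agent.Helper22.PIY
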