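import Mathlib
import Cfsg.Agent.Lib.PIY.PIYDefs
import Cfsg.Agent.Lib.OPE.OPECent

/-!
# PIY-TCEN (S5243, specific half): `TCentric` = `E`-centric.
RECIPE.
* `isCentric_of_tcentric`: an `E`-conjugate is an `F`-conjugate (`hEF`); `E.IsCentric Q` unfolds to
  `Q ≤ T ∧ ∀ Q', E.IsConj Q Q' → centralizerIn T Q' ≤ Q'`.
* `tcentric_of_isCentric`: `OPE.isCentric_resSys F hTS E hinv hQ : (resSys F T hTS).IsCentric Q` (landed,
  `Lib/OPE/OPECent.lean`).  An `F`-conjugate `Q' = φ.range`, `φ ∈ F.Hom Q`, is a `resSys`-conjugate: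
  `mem_resSys` needs `Q ≤ T` and values in `T` (strong closure `hinv.2.1.2 Q hQ.1 φ hφ`).
Aux names: prefix `piytcen_`.  Keep statements, names, namespace exactly; you may add imports.
-/

set_option autoImplicit false

namespace Cfsg.Agent.Helper22.PIY

open Cfsg Cfsg.FusionSystem Cfsg.Agent.Helper25 Cfsg.Agent.Helper26 Cfsg.Agent.Helper3.PIX
  Cfsg.Agent.Helper25.OPE

variable {Ω : Type*} [Group Ω] {S : Subgroup Ω} {p : ℕ} {F : FusionSystem S} {T : Subgroup Ω}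
  {E : FusionSystem T} {Δ : Type*} [Group Δ] {χ : ↥(F.autGroup T) →* Δ}

theorem isCentric_of_tcentric (hEF : E.IsSubsystemOf F) {Q : Subgroup Ω} (hQ : TCentric F T Q) :
    E.IsCentric Q := by
  obtain ⟨hQT, hc⟩ := hQ
  refine ⟨hQT, ?_⟩
  rintro Q' ⟨φ, hφ, rfl⟩
  exact hc φ.range ⟨φ, hEF Q hφ, rfl⟩

theorem tcentric_of_isCentric (hTS : T ≤ S) (hinv : E.IsInvariantIn F) {Q : Subgroup Ω}
    (hQ : E.IsCentric Q) : TCentric F T Q := by
  obtain ⟨hQT, hc⟩ := isCentric_resSys F hTS E hinv hQ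
  refine ⟨hQT, ?_⟩
  rintro Q' ⟨φ, hφ, rfl⟩
  exact hc φ.range ⟨φ, ⟨hφ, hQT, hinv.2.1.2 Q hQT φ hφ⟩, rfl⟩

end Cfsg.Agent.Helper22.PIY
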