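import Mathlib
import Cfsg.Agent.Lib.PIY.PIYTCen
import Cfsg.Agent.Lib.PIY.PIYFam
import Cfsg.Agent.Lib.PIY.PIYFamB
import Cfsg.Agent.Lib.PIY.PIYEss
import Cfsg.Agent.Lib.PIY.PIYHStar

/-!
# S5243, specific half: the hypothesis bundle `FamHyp` of the generic half for `famH`, `Hchi` (assembly, helper22).
-/

set_option autoImplicit false

namespace Cfsg.Agent.Helper22.PIY

open Cfsg Cfsg.FusionSystem Cfsg.Agent.Helper25 Cfsg.Agent.Helper26 Cfsg.Agent.Helper3.PIX
  Cfsg.Agent.Helper25.OPE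

variable {Ω : Type*} [Group Ω] {S : Subgroup Ω} {p : ℕ} {F : FusionSystem S} {T : Subgroup Ω}
  {E : FusionSystem T} {Δ : Type*} [Group Δ] {χ : ↥(F.autGroup T) →* Δ}

theorem mem_famH_of_mem_famHH (h : Setup p F E χ) {P : Subgroup Ω} (hP : P ∈ famHH F E) :
    P ∈ famH F T := ⟨hP.1, tcentric_of_isCentric h.hTS h.hinv hP.2⟩

theorem mem_famHH_of_mem_famH (h : Setup p F E χ) {P : Subgroup Ω} (hP : P ∈ famH F T) :
    P ∈ famHH F E := ⟨hP.1, isCentric_of_tcentric h.hEF hP.2⟩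

theorem famHyp [Finite S] [Fact p.Prime] (h : Setup p F E χ) :
    FamHyp F p (famHH F E) (Hchi F h.hTS χ) where
  centric _ hP := hP.1
  conj _ hP _ hc := mem_famHH_of_mem_famH h (famH_conj h.hT (mem_famH_of_mem_famHH h hP) hc)
  overgroup _ hP _ hPR hRS :=
    mem_famHH_of_mem_famH h (famH_overgroup (mem_famH_of_mem_famHH h hP) hPR hRS)
  top := mem_famHH_of_mem_famH h (top_mem_famH h.hT)
  ess _ hP := mem_famHH_of_mem_famH h (famH_of_isEssential h.hS F h.hF h.hT hP)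
  le_aut := hchi_le_aut F h.hTS χ
  normal := hchi_normal F h.hTS h.hT χ
  star D hDF hfr P hPc hPn :=
    hstar_famH h.hS F h.hF h.hT D hDF hfr P hPc (fun hm => hPn (mem_famHH_of_mem_famH h hm))

end Cfsg.Agent.Helper22.PIY
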